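import Mathlib
import Cfsg.Prelude.Def_KGroupFacts

/-!
Upper bounds on Schur multipliers: a central extension with kernel of prime order inside the
commutator subgroup cannot split over a subgroup of index prime to that order.
-/

set_option autoImplicit false

namespace Cfsg.Agent.SchurSplit

open scoped commutatorElement

universe u

/-- No stem extension of `G` has kernel of order `p`. -/
def NoExt (G : Type u) [Group G] (p : ℕ) : Prop :=
  ∀ (E : Type u) [Group E] [Finite E] (π : E →* G), Function.Surjective π →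
    π.ker ≤ Subgroup.center E → Nat.card π.ker = p → ¬ π.ker ≤ commutator E

/-- If no prime occurs as the kernel order of a stem extension, the multiplier is trivial. -/
theorem trivial_of_noExt {G : Type u} [Group G] [Finite G]
    (h : ∀ p, p.Prime → NoExt G p) : Cfsg.HasCyclicSchurMultiplier G 1 := by
  refine ⟨⟨G, inferInstance, inferInstance, MonoidHom.id G,
    ⟨Function.surjective_id, by simp, by simp⟩, ?_⟩, ?_⟩
  · haveI : Subsingleton ↥(MonoidHom.id G).ker := by
      refine ⟨fun a b => Subtype.ext ?_⟩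
      exact (MonoidHom.mem_ker.1 a.2).trans (MonoidHom.mem_ker.1 b.2).symm
    haveI : Nonempty ↥(MonoidHom.id G).ker := ⟨1⟩
    haveI : Unique ↥(MonoidHom.id G).ker := uniqueOfSubsingleton 1
    haveI : Unique (Multiplicative (ZMod 1)) := uniqueOfSubsingleton 1
    exact ⟨MulEquiv.ofUnique⟩
  intro Γ _ _ σ hσ
  obtain ⟨hsurj, hc, hd⟩ := hσ
  suffices hbot : σ.ker = ⊥ by
    refine ⟨1, fun x => ⟨1, ?_⟩⟩
    have := Subgroup.mem_bot.1 (le_of_eq hbot x.2)
    exact Subtype.ext (by rw [MonoidHom.one_apply]; exact this.symm)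
  by_contra hne
  haveI : Nontrivial ↥σ.ker := (Subgroup.nontrivial_iff_ne_bot _).2 hne
  obtain ⟨p, hp, hdvd⟩ := Nat.exists_prime_and_dvd
    (Finite.one_lt_card (α := ↥σ.ker)).ne'
  -- a subgroup of index `p` in the abelian kernel
  haveI : IsMulCommutative ↥σ.ker :=
    ⟨⟨fun a b => Subtype.ext (Subgroup.mem_center_iff.1 (hc b.2) a)⟩⟩
  haveI : Fact p.Prime := ⟨hp⟩
  obtain ⟨K₀, hK₀⟩ : ∃ K₀ : Subgroup ↥σ.ker, K₀.index = p := by
    obtain ⟨K, hKmem, hmax⟩ := Set.exists_max_image {K : Subgroup ↥σ.ker | p ∣ K.index}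
      (fun K => Nat.card K) (Set.toFinite _) ⟨⊥, by simpa [Subgroup.index_bot] using hdvd⟩
    refine ⟨K, ?_⟩
    haveI : K.Normal := ⟨fun x hx g => by
      have : g * x = x * g := IsMulCommutative.is_comm.comm g x
      rwa [this, mul_inv_cancel_right]⟩
    by_contra hne
    obtain ⟨c, hc'⟩ : p ∣ K.index := hKmem
    have hc1 : c ≠ 1 := by rintro rfl; exact hne (by rw [hc', mul_one])
    obtain ⟨r, hr, hrc⟩ := Nat.exists_prime_and_dvd hc1
    haveI : Fact r.Prime := ⟨hr⟩
    obtain ⟨y, hy⟩ := exists_prime_orderOf_dvd_card' (G := ↥σ.ker ⧸ K) r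
      (by rw [← Subgroup.index_eq_card, hc']; exact hrc.mul_left p)
    let R : Subgroup ↥σ.ker := (Subgroup.zpowers y).comap (QuotientGroup.mk' K)
    have hRi : R.index * r = K.index := by
      rw [Subgroup.index_comap_of_surjective _ (QuotientGroup.mk'_surjective K), ← hy,
        ← Nat.card_zpowers, mul_comm, Subgroup.card_mul_index, Subgroup.index_eq_card]
    have hRp : p ∣ R.index := by
      obtain ⟨d, rfl⟩ := hrc
      refine ⟨d, Nat.eq_of_mul_eq_mul_right hr.pos ?_⟩
      rw [hRi, hc']; ring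
    have h1 := hmax R hRp
    have h2 := Subgroup.card_mul_index R
    have h3 := Subgroup.card_mul_index K
    rw [← hRi, ← h2] at h3
    have hRpos : 0 < R.index := Nat.pos_of_ne_zero Subgroup.index_ne_zero_of_finite
    have h4 : Nat.card K * r = Nat.card R :=
      Nat.eq_of_mul_eq_mul_right hRpos (by rw [← h3]; ring)
    have h5 : 0 < Nat.card K := Nat.card_pos
    have h6 : 2 ≤ r := hr.two_le
    nlinarith
  let K : Subgroup Γ := K₀.map σ.ker.subtype
  have hKle : K ≤ σ.ker := Subgroup.map_subtype_le _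
  haveI : K.Normal := ⟨fun x hx g => by
    have := Subgroup.mem_center_iff.1 (hc (hKle hx)) g
    rwa [this, mul_inv_cancel_right]⟩
  let π : Γ ⧸ K →* G := QuotientGroup.lift K σ hKle
  have hmk : ∀ x : Γ, π (QuotientGroup.mk x) = σ x := fun x => rfl
  have hπs : Function.Surjective π := fun g => by
    obtain ⟨x, rfl⟩ := hsurj g
    exact ⟨QuotientGroup.mk x, rfl⟩
  have hker : π.ker = σ.ker.map (QuotientGroup.mk' K) := by
    ext q
    obtain ⟨x, rfl⟩ := QuotientGroup.mk_surjective q
    rw [MonoidHom.mem_ker, hmk]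
    constructor
    · intro hx; exact ⟨x, MonoidHom.mem_ker.2 hx, rfl⟩
    · rintro ⟨y, hy, he⟩
      rw [← hmk x, ← he]
      exact MonoidHom.mem_ker.1 hy
  refine h p hp (Γ ⧸ K) π hπs ?_ ?_ ?_
  · rw [hker]
    rintro _ ⟨y, hy, rfl⟩
    rw [Subgroup.mem_center_iff]
    intro q
    obtain ⟨x, rfl⟩ := QuotientGroup.mk_surjective q
    show ((x * y : Γ) : Γ ⧸ K) = ((y * x : Γ) : Γ ⧸ K)
    rw [Subgroup.mem_center_iff.1 (hc hy) x]
  · let φ : ↥σ.ker →* Γ ⧸ K := (QuotientGroup.mk' K).comp σ.ker.subtype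
    have hφk : φ.ker = K₀ := by
      ext x
      show (QuotientGroup.mk' K) (x : Γ) = 1 ↔ _
      rw [QuotientGroup.mk'_apply, QuotientGroup.eq_one_iff]
      exact Subgroup.mem_map_iff_mem σ.ker.subtype_injective
    have hφr : φ.range = π.ker := by
      rw [hker, MonoidHom.range_comp, Subgroup.range_subtype]
    rw [← hφr, ← Nat.card_congr (QuotientGroup.quotientKerEquivRange φ).toEquiv, hφk]
    exact hK₀
  · rw [hker]
    refine (Subgroup.map_mono hd).trans ?_
    rw [commutator_def, Subgroup.map_commutator, commutator_def]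
    exact Subgroup.commutator_mono le_top le_top

/-- Splitting over a subgroup of index prime to the kernel order is impossible. -/
theorem false_of_split {E G : Type*} [Group E] [Finite E] [Group G] (π : E →* G)
    (hπ : Function.Surjective π) (hc : π.ker ≤ Subgroup.center E) {p : ℕ} (hp : p.Prime)
    (hcard : Nat.card π.ker = p) (hd : π.ker ≤ commutator E) (T : Subgroup E)
    (hT : Nat.card T ≤ Nat.card (T.map π)) (hidx : Nat.Coprime p (T.map π).index) : False := by
  classical
  have hcen : ∀ k : E, k ∈ π.ker → ∀ x : E, x * k = k * x := fun k hk x =>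
    Subgroup.mem_center_iff.1 (hc hk) x
  have hsur : Function.Surjective (π.subgroupMap T) := π.subgroupMap_surjective T
  have hinj := (hsur.bijective_of_nat_card_le hT).injective
  have hTk : ∀ x ∈ T, π x = 1 → x = 1 := fun x hx h1 => by
    have : π.subgroupMap T ⟨x, hx⟩ = π.subgroupMap T 1 := Subtype.ext (by simpa using h1)
    exact congrArg Subtype.val (hinj this)
  haveI hkn : π.ker.Normal := π.normal_ker
  let W : Subgroup E := T ⊔ π.ker
  have hWidx : W.index = (T.map π).index := by
    rw [← Subgroup.index_map_eq W hπ le_sup_right, Subgroup.map_sup,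
      (Subgroup.map_eq_bot_iff π.ker).2 le_rfl, sup_bot_eq]
  have hWcomm : ⁅W, W⁆ ≤ T := by
    rw [Subgroup.commutator_le]
    intro x hx y hy
    obtain ⟨t, ht, v, hv, rfl⟩ := Subgroup.mem_sup_of_normal_right.1 hx
    obtain ⟨t', ht', v', hv', rfl⟩ := Subgroup.mem_sup_of_normal_right.1 hy
    have hv1 := hcen v hv
    have hv2 := hcen v' hv'
    have e : ⁅t * v, t' * v'⁆ = ⁅t, t'⁆ := by
      simp only [commutatorElement_def, mul_inv_rev]
      calc t * v * (t' * v') * (v⁻¹ * t⁻¹) * (v'⁻¹ * t'⁻¹)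
          = t * v * t' * (v' * (v⁻¹ * t⁻¹)) * v'⁻¹ * t'⁻¹ := by group
        _ = t * v * t' * ((v⁻¹ * t⁻¹) * v') * v'⁻¹ * t'⁻¹ := by rw [← hv2]
        _ = t * (v * t') * v⁻¹ * t⁻¹ * t'⁻¹ := by group
        _ = t * (t' * v) * v⁻¹ * t⁻¹ * t'⁻¹ := by rw [← hv1]
        _ = t * t' * t⁻¹ * t'⁻¹ := by group
    rw [e, commutatorElement_def]
    exact mul_mem (mul_mem (mul_mem ht ht') (inv_mem ht)) (inv_mem ht')
  have hbot : ∀ v ∈ π.ker, v = 1 := by
    intro v hv
    haveI : W.FiniteIndex := Subgroup.finiteIndex_of_finite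
    let φ : W →* Abelianization W := Abelianization.of
    have h0 : MonoidHom.transfer φ v = 1 := Abelianization.commutator_subset_ker _ (hd hv)
    have key : ∀ (k : ℕ) (g₀ : E), g₀⁻¹ * v ^ k * g₀ ∈ W → g₀⁻¹ * v ^ k * g₀ = v ^ k := by
      intro k g₀ _
      rw [hcen _ (pow_mem hv k) g₀⁻¹, inv_mul_cancel_right]
    rw [MonoidHom.transfer_eq_pow φ v key, ← MonoidHom.mem_ker, Abelianization.ker_of] at h0
    have h3 := Subgroup.mem_map_of_mem W.subtype h0
    rw [Subgroup.map_subtype_commutator] at h3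
    have h1 : v ^ W.index = 1 :=
      hTk _ (hWcomm h3) (MonoidHom.mem_ker.1 (pow_mem hv _))
    have h2 : v ^ p = 1 := by
      have := pow_card_eq_one' (x := (⟨v, hv⟩ : π.ker))
      rw [hcard] at this
      simpa [Subtype.ext_iff] using this
    rw [hWidx] at h1
    have := (pow_gcd_eq_one (a := v)).mpr ⟨h2, h1⟩
    rw [hidx] at this
    simpa using this
  have : Nat.card π.ker = 1 := by
    rw [Subgroup.card_eq_one, eq_bot_iff]
    exact fun v hv => hbot v hv
  exact hp.one_lt.ne' (hcard.symm.trans this)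

/-- Adjoining a normalising element of order dividing `p` multiplies the order by at most `p`. -/
theorem card_sup_zpowers_le {E : Type*} [Group E] [Finite E] (T : Subgroup E) (x : E) {p : ℕ}
    (hp : 0 < p) (hx : x ^ p = 1) (hn : x ∈ Subgroup.normalizer (T : Set E)) :
    Nat.card ↥(T ⊔ Subgroup.zpowers x) ≤ Nat.card T * p := by
  classical
  have hle : Subgroup.zpowers x ≤ Subgroup.normalizer (T : Set E) := Subgroup.zpowers_le.2 hn
  have hmul : ((T ⊔ Subgroup.zpowers x : Subgroup E) : Set E) =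
      Set.range (fun v : T × Fin p => (v.1 : E) * x ^ (v.2 : ℕ)) := by
    ext y
    constructor
    · intro hy
      rw [Subgroup.coe_mul_of_right_le_normalizer_left _ _ hle] at hy
      obtain ⟨t, ht, z, hz, rfl⟩ := hy
      obtain ⟨n, hn'⟩ := (mem_powers_iff_mem_zpowers (x := x)).2 hz
      refine ⟨(⟨t, ht⟩, ⟨n % p, Nat.mod_lt _ hp⟩), ?_⟩
      simp only at hn' ⊢
      rw [← hn', pow_eq_pow_mod n hx]
    · rintro ⟨⟨t, i⟩, rfl⟩
      exact mul_mem (Subgroup.mem_sup_left t.2)
        (Subgroup.mem_sup_right (pow_mem (Subgroup.mem_zpowers x) _))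
  have h2 := Finite.card_range_le (fun v : T × Fin p => (v.1 : E) * x ^ (v.2 : ℕ))
  rw [← hmul, Nat.card_prod, Nat.card_fin] at h2
  exact h2

/-- An element conjugating each generator into the generated subgroup normalises it. -/
theorem mem_normalizer_closure {E : Type*} [Group E] [Finite E] (S : Set E) (x : E)
    (h : ∀ s ∈ S, x * s * x⁻¹ ∈ Subgroup.closure S) :
    x ∈ Subgroup.normalizer (Subgroup.closure S : Set E) := by
  have hmap : (Subgroup.closure S).map (MulAut.conj x).toMonoidHom = Subgroup.closure S := by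
    apply Subgroup.eq_of_le_of_card_ge
    · rw [MonoidHom.map_closure, Subgroup.closure_le]
      rintro _ ⟨s, hs, rfl⟩
      exact h s hs
    · exact le_of_eq (Nat.card_congr ((Subgroup.closure S).equivMapOfInjective _
        (MulAut.conj x).injective).toEquiv)
  rw [Subgroup.mem_normalizer_iff]
  intro y
  constructor
  · intro hy
    have := Subgroup.mem_map_of_mem (MulAut.conj x).toMonoidHom hy
    rwa [hmap] at this
  · intro hy
    rw [← hmap] at hy
    obtain ⟨z, hz, he⟩ := hy
    have : z = y := (MulAut.conj x).injective he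
    exact this ▸ hz

end Cfsg.Agent.SchurSplit
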