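import Cfsg.Agent.Lib.SchurSplit.SmallSylow
import Cfsg.Agent.Lib.Golay.SylowM11
import Cfsg.Agent.S0457

/-!
The multipliers of `M₁₁` and `J₁` are trivial.
-/

set_option autoImplicit false

namespace Cfsg.Agent.SchurSplit

universe u

/-- A prime dividing the order at most once contributes nothing. -/
theorem noExt_of_sq_not_dvd {G : Type u} [Group G] [Finite G] {p : ℕ} (hp : p.Prime)
    (h : ¬ p ^ 2 ∣ Nat.card G) : NoExt G p := by
  intro E _ _ π hπ hc hcard hd
  haveI := Fact.mk hp
  obtain ⟨S⟩ : Nonempty (Sylow p G) := inferInstance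
  have hS : (Nat.card G).factorization p ≤ 1 := by
    by_contra hgt
    exact h ((hp.pow_dvd_iff_le_factorization Nat.card_pos.ne').2 (by omega))
  haveI : IsCyclic (S : Subgroup G) := by
    rcases Nat.le_one_iff_eq_zero_or_eq_one.1 hS with e | e
    · haveI : Subsingleton (S : Subgroup G) := (Nat.card_eq_one_iff_unique.1
        (by rw [S.card_eq_multiplicity, e, pow_zero])).1
      exact isCyclic_of_subsingleton
    · exact isCyclic_of_prime_card (p := p) (by rw [S.card_eq_multiplicity, e, pow_one])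
  exact false_of_derived π hπ hc hp hcard hd (S : Subgroup G)
    ((hp.coprime_iff_not_dvd).2 S.not_dvd_index) (comap_of_cyclic π hπ hc _)

theorem noExt_sylow {G : Type u} [Group G] [Finite G] {p : ℕ} (hp : p.Prime) (T : Subgroup G)
    (hidx : ¬ p ∣ T.index)
    (h : ∀ (E : Type u) [Group E] [Finite E] (π : E →* G), Function.Surjective π →
      π.ker ≤ Subgroup.center E → Nat.card π.ker = p →
      ⁅T.comap π, T.comap π⁆ ⊓ π.ker = ⊥) : NoExt G p :=
  fun E _ _ π hπ hc hcard hd =>
    false_of_derived π hπ hc hp hcard hd T ((hp.coprime_iff_not_dvd).2 hidx) (h E π hπ hc hcard)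

theorem not_dvd_index {G : Type u} [Group G] [Finite G] {p k m : ℕ} (hp : p.Prime)
    (T : Subgroup G) (hG : Nat.card G = p ^ k * m) (hm : ¬ p ∣ m) (hT : p ^ k ∣ Nat.card T) :
    ¬ p ∣ T.index := by
  rintro ⟨i, hi⟩
  obtain ⟨j, hj⟩ := hT
  have h := T.card_mul_index
  rw [hi, hj, hG] at h
  exact hm ⟨j * i, Nat.eq_of_mul_eq_mul_left (pow_pos hp.pos k) (by rw [← h]; ring)⟩

end Cfsg.Agent.SchurSplit
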