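import Mathlib
import Cfsg.Agent.Lib.SchurSplit.Core
import Cfsg.Agent.Lib.CoverL34.Basic

/-!
Splitting tools for central extensions with kernel of order two: good involutions (all lifts are
involutions), the invariant complement over an elementary abelian subgroup of order 16, and the
derived relation among lifts of root involutions.
-/

set_option autoImplicit false

namespace Cfsg.Agent.SchurSplit

open scoped commutatorElement

abbrev V4 : Type := Fin 4 → ZMod 2

/-- The setting: a central extension of exponent two with a marked elementary abelian subgroup. -/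
structure TwoExt (E G : Type*) [Group E] [Group G] where
  π : E →* G
  surj : Function.Surjective π
  central : π.ker ≤ Subgroup.center E
  sq : ∀ v ∈ π.ker, v * v = 1
  f : V4 → G
  hom : ∀ v w, f (v + w) = f v * f w
  e : V4
  e_ne : e ≠ 0
  f_e_ne : f e ≠ 1
  trans : ∀ v : V4, v ≠ 0 → ∃ g : G, g * f e = f v * g

variable {E G : Type*} [Group E] [Group G]

/-- An element all of whose lifts are involutions. -/
def Good (π : E →* G) (x : G) : Prop := ∀ y, π y = x → y * y = 1

theorem v4_avoid : ∀ v w : V4, ∃ u : V4, u ≠ 0 ∧ u ≠ v ∧ u ≠ w ∧ u ≠ v + w := by decide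

theorem v4_add_self : ∀ v : V4, v + v = 0 := by decide

theorem TwoExt.elem (X : TwoExt E G) :
    (∀ y : E, ∀ v, X.π y = X.f v → y * y = 1) ∧
      ∀ y z : E, ∀ v w, X.π y = X.f v → X.π z = X.f w → y * z = z * y :=
  CoverL34.preimage_elementary X.π X.surj X.central X.sq v4_add_self v4_avoid X.f X.hom X.e X.e_ne
    X.trans

theorem TwoExt.cen (X : TwoExt E G) {k : E} (hk : X.π k = 1) (x : E) : x * k = k * x :=
  Subgroup.mem_center_iff.1 (X.central (MonoidHom.mem_ker.2 hk)) x

/-- Conjugates of the marked involution are good. -/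
theorem TwoExt.good_of_conj (X : TwoExt E G) {x : G} (g : G) (h : g * X.f X.e = x * g) :
    Good X.π x := by
  intro y hy
  obtain ⟨g', rfl⟩ := X.surj g
  have h1 : X.π (g'⁻¹ * y * g') = X.f X.e := by
    rw [map_mul, map_mul, map_inv, hy, mul_assoc, ← h, inv_mul_cancel_left]
  have h2 := X.elem.1 _ _ h1
  calc y * y = g' * ((g'⁻¹ * y * g') * (g'⁻¹ * y * g')) * g'⁻¹ := by group
    _ = 1 := by rw [h2]; group

theorem Good.one_pow {π : E →* G} {x : G} (hx : Good π x) {y : E} (hy : π y = x) : y ^ 2 = 1 := by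
  rw [sq]; exact hx y hy

/-- Lifts of good involutions with good product commute. -/
theorem comm_of_good {π : E →* G} {a b : G} (ha : Good π a) (hb : Good π b) (hab : Good π (a * b))
    {x y : E} (hx : π x = a) (hy : π y = b) : x * y = y * x := by
  calc x * y = (x * y)⁻¹ := (inv_eq_of_mul_eq_one_right (hab _ (by rw [map_mul, hx, hy]))).symm
    _ = y⁻¹ * x⁻¹ := mul_inv_rev _ _
    _ = y * x := by
      rw [inv_eq_of_mul_eq_one_right (hb y hy), inv_eq_of_mul_eq_one_right (ha x hx)]

/-- The derived relation among lifts: `((ab)^2 c)^2 = (a (bc)^2)^2`. -/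
theorem derived_relation {a b c u w t : E} (ha : a * a = 1) (hb : b * b = 1) (hc : c * c = 1)
    (hac : a * c = c * a) (hu : u = a * b * (a * b)) (hw : w = b * c * (b * c))
    (hw2 : w * w = 1) (hu2 : u * u = 1) (ht : t = a * w * (a * w)) (hbw : b * w = w * b) (hbt : b * t = t * b)
    (hat : a * t = t * a) :
    u * c * (u * c) = t := by
  have hai : a⁻¹ = a := inv_eq_of_mul_eq_one_right ha
  have hbi : b⁻¹ = b := inv_eq_of_mul_eq_one_right hb
  have hci : c⁻¹ = c := inv_eq_of_mul_eq_one_right hc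
  have hwi : w⁻¹ = w := inv_eq_of_mul_eq_one_right hw2
  have cbc : c * b * c = b * w := by
    rw [hw]; simp only [← mul_assoc]; rw [hb, one_mul]
  have cac : c * a * c = a := by
    rw [← hac, mul_assoc, hc, mul_one]
  have wa : w * a = a * t * w := by
    rw [ht]; simp only [← mul_assoc]; rw [ha, one_mul]; simp only [mul_assoc, hw2, mul_one]
  have cuc : c * u * c = u * t := by
    calc c * u * c = (c * a * c) * (c * b * c) * ((c * a * c) * (c * b * c)) := by
            rw [hu]
            simp only [mul_assoc]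
            simp only [← mul_assoc c c, hc, one_mul]
      _ = a * (b * w) * (a * (b * w)) := by rw [cbc, cac]
      _ = a * b * (w * a) * (b * w) := by simp only [mul_assoc]
      _ = a * b * a * (t * (w * b) * w) := by rw [wa]; simp only [mul_assoc]
      _ = a * b * a * (t * b * (w * w)) := by rw [← hbw]; simp only [mul_assoc]
      _ = a * b * a * (b * t) := by rw [hw2, mul_one, hbt]
      _ = u * t := by rw [hu]; simp only [mul_assoc]
  calc u * c * (u * c) = u * (c * u * c) := by simp only [mul_assoc]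
    _ = u * (u * t) := by rw [cuc]
    _ = (u * u) * t := by rw [mul_assoc]
    _ = t := by rw [hu2, one_mul]

/-- Generated invariant complement over the elementary abelian subgroup. -/
theorem TwoExt.exists_complement [Finite E] (X : TwoExt E G) (h k : G)
    (hh : ∀ v, ∃ u, ⁅h, X.f u⁆ = X.f v) (hk : ∀ v, ∃ u, ⁅k, X.f u⁆ = X.f v)
    (hhN : ∀ v, ∃ v', h * X.f v = X.f v' * h) (hkN : ∀ v, ∃ v', k * X.f v = X.f v' * k)
    (hcomm : h * k = k * h) :
    ∃ B : Subgroup E, Nat.card B ≤ 16 ∧ (∀ v, ∃ y ∈ B, X.π y = X.f v) ∧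
      (∀ y ∈ B, ∃ v, X.π y = X.f v) ∧
      ∀ w : G, (w * h = h * w ∨ w * k = k * w) → (∀ v, ∃ v', w * X.f v = X.f v' * w) →
        ∀ y : E, X.π y = w → y ∈ Subgroup.normalizer (B : Set E) := by
  classical
  obtain ⟨h', hh'⟩ := X.surj h
  obtain ⟨k', hk'⟩ := X.surj k
  let sec : G → E := Function.surjInv X.surj
  have hsec : ∀ g, X.π (sec g) = g := Function.surjInv_eq X.surj
  have comm_ext : ∀ (g : E) (y y' : E), X.π y = X.π y' → ⁅g, y⁆ = ⁅g, y'⁆ := by
    intro g y y' hy
    obtain ⟨c, hc⟩ : ∃ c, y'⁻¹ * y = c := ⟨_, rfl⟩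
    have hc1 : X.π c = 1 := by rw [← hc, map_mul, map_inv, hy, inv_mul_cancel]
    have : y = y' * c := by rw [← hc]; group
    rw [this, commutatorElement_def, commutatorElement_def, mul_inv_rev]
    calc g * (y' * c) * g⁻¹ * (c⁻¹ * y'⁻¹) = g * y' * (c * g⁻¹) * c⁻¹ * y'⁻¹ := by group
      _ = g * y' * (g⁻¹ * c) * c⁻¹ * y'⁻¹ := by rw [← X.cen hc1]
      _ = g * y' * g⁻¹ * y'⁻¹ := by group
  have comm_ext' : ∀ (g g' : E) (y : E), X.π g = X.π g' → ⁅g, y⁆ = ⁅g', y⁆ := by
    intro g g' y hg
    rw [← commutatorElement_inv y g, comm_ext y g g' hg, commutatorElement_inv]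
  have hf0 : X.f 0 = 1 := mul_left_cancel (a := X.f 0) (by rw [← X.hom, add_zero, mul_one])
  -- the image of commutation with a lift, on the preimage
  have mk : ∀ (g : G) (g' : E), X.π g' = g → (∀ v, ∃ v', g * X.f v = X.f v' * g) →
      (∀ v, ∃ u, ⁅g, X.f u⁆ = X.f v) →
      ∃ B : Subgroup E, (B : Set E) = Set.range (fun v : V4 => ⁅g', sec (X.f v)⁆) ∧
        Nat.card B ≤ 16 ∧ (∀ v, ∃ y ∈ B, X.π y = X.f v) ∧ (∀ y ∈ B, ∃ v, X.π y = X.f v) := by
    intro g g' hg hN hsur
    have hproj : ∀ v, ∃ v', X.π ⁅g', sec (X.f v)⁆ = X.f v' := by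
      intro v
      obtain ⟨v', hv'⟩ := hN v
      refine ⟨v' + v, ?_⟩
      rw [map_commutatorElement, hg, hsec, commutatorElement_def, hv']
      have : X.f v * X.f v = 1 := by rw [← X.hom, v4_add_self, hf0]
      rw [inv_eq_of_mul_eq_one_right this, X.hom, mul_inv_cancel_right]
    have hmul : ∀ v v', ⁅g', sec (X.f (v + v'))⁆ = ⁅g', sec (X.f v)⁆ * ⁅g', sec (X.f v')⁆ := by
      intro v v'
      rw [comm_ext g' (sec (X.f (v + v'))) (sec (X.f v) * sec (X.f v'))
        (by rw [map_mul, hsec, hsec, hsec, X.hom])]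
      obtain ⟨u, hu⟩ := hproj v'
      have hc := X.elem.2 _ _ v u (hsec (X.f v)) hu
      have : ∀ y z : E, ⁅g', y * z⁆ = ⁅g', y⁆ * (y * ⁅g', z⁆ * y⁻¹) := fun y z => by
        simp only [commutatorElement_def]; group
      rw [this, hc, mul_inv_cancel_right]
    let φ : Multiplicative V4 →* E :=
      MonoidHom.mk' (fun v => ⁅g', sec (X.f v.toAdd)⁆) fun a b => hmul a.toAdd b.toAdd
    refine ⟨φ.range, ?_, ?_, fun v => ?_, ?_⟩
    · rw [MonoidHom.coe_range]; rfl
    · refine (Finite.card_range_le φ).trans ?_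
      rw [Nat.card_congr Multiplicative.toAdd, Nat.card_eq_fintype_card]
      decide
    · obtain ⟨u, hu⟩ := hsur v
      refine ⟨_, ⟨Multiplicative.ofAdd u, rfl⟩, ?_⟩
      show X.π ⁅g', sec (X.f u)⁆ = X.f v
      rw [map_commutatorElement, hg, hsec, hu]
    · rintro _ ⟨v, rfl⟩
      exact hproj v.toAdd
  obtain ⟨B, hBset, hBcard, hBsur, hBproj⟩ := mk h h' hh' hhN hh
  obtain ⟨B', hB'set, hB'card, hB'sur, hB'proj⟩ := mk k k' hk' hkN hk
  have hinv : ∀ (g : G) (g' : E) (D : Subgroup E), X.π g' = g →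
      (D : Set E) = Set.range (fun v : V4 => ⁅g', sec (X.f v)⁆) →
      ∀ w : G, w * g = g * w → (∀ v, ∃ v', w * X.f v = X.f v' * w) →
      ∀ y : E, X.π y = w → y ∈ Subgroup.normalizer (D : Set E) := by
    intro g g' D hg hD w hw hwN y hy
    rw [← Subgroup.closure_eq D]
    refine mem_normalizer_closure _ _ ?_
    intro s hs
    rw [Subgroup.closure_eq]
    rw [hD] at hs
    obtain ⟨v, rfl⟩ := hs
    obtain ⟨v', hv'⟩ := hwN v
    have e1 : y * ⁅g', sec (X.f v)⁆ * y⁻¹ = ⁅y * g' * y⁻¹, y * sec (X.f v) * y⁻¹⁆ := by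
      simp only [commutatorElement_def]; group
    show y * ⁅g', sec (X.f v)⁆ * y⁻¹ ∈ (D : Set E)
    rw [e1, hD]
    refine ⟨v', ?_⟩
    rw [comm_ext' (y * g' * y⁻¹) g' _ (by rw [map_mul, map_mul, map_inv, hy, hg, hw,
      mul_inv_cancel_right])]
    exact comm_ext _ _ _ (by rw [map_mul, map_mul, map_inv, hy, hsec, hsec, hv',
      mul_inv_cancel_right])
  -- the two complements coincide
  have hBB : B' = B := by
    have hle : B' ≤ B := by
      have hk'N : k' ∈ Subgroup.normalizer (B : Set E) :=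
        hinv h h' B hh' hBset k hcomm.symm hkN k' hk'
      intro y hy
      have hy' : y ∈ (B' : Set E) := hy
      rw [hB'set] at hy'
      obtain ⟨v, rfl⟩ := hy'
      obtain ⟨b, hb, hbv⟩ := hBsur v
      show ⁅k', sec (X.f v)⁆ ∈ B
      rw [comm_ext k' (sec (X.f v)) b (by rw [hsec, hbv]), commutatorElement_def]
      exact mul_mem ((Subgroup.mem_normalizer_iff.1 hk'N b).1 hb) (inv_mem hb)
    refine Subgroup.eq_of_le_of_card_ge hle (hBcard.trans ?_)
    have hinjf : Function.Injective X.f := by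
      intro a b hab
      by_contra hne
      obtain ⟨g, hg⟩ := X.trans (a + b) (fun h0 => hne (by
        have := congrArg (· + b) h0
        simpa [add_assoc, v4_add_self] using this))
      rw [X.hom, hab, ← X.hom, v4_add_self, hf0, one_mul, mul_eq_left] at hg
      -- every value is trivial, so the marked one must be non-trivial
      exact X.f_e_ne hg
    have hq : ∀ v, ∃ y : B', X.π (y : E) = X.f v := fun v => by
      obtain ⟨y, hy, h1⟩ := hB'sur v
      exact ⟨⟨y, hy⟩, h1⟩
    choose r hr using hq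
    have := Nat.card_le_card_of_injective r (fun a b hab => hinjf (by rw [← hr, ← hr, hab]))
    rwa [Nat.card_eq_fintype_card, show Fintype.card V4 = 16 from by decide] at this
  refine ⟨B, hBcard, hBsur, hBproj, fun w hw hwN y hy => ?_⟩
  rcases hw with hw | hw
  · exact hinv h h' B hh' hBset w hw hwN y hy
  · rw [← hBB]
    exact hinv k k' B' hk' hB'set w hw hwN y hy

end Cfsg.Agent.SchurSplit
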