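import Mathlib
import Cfsg.Agent.Lib.SchurSplit.Two

/-!
Order bounds for subgroups of an extension generated by lifts satisfying the relations of a Sylow
2-subgroup: upper unitriangular `4 × 4` over two elements, and dihedral of order 8, on top of a
normalised subgroup.
-/

set_option autoImplicit false

namespace Cfsg.Agent.SchurSplit

variable {E : Type*} [Group E] [Finite E]

/-- One step: adjoin an involution. -/
theorem card_closure_insert_le (S : Set E) (x : E) (hx : x * x = 1)
    (h : ∀ s ∈ S, x * s * x ∈ Subgroup.closure S) :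
    Nat.card (Subgroup.closure (insert x S)) ≤ Nat.card (Subgroup.closure S) * 2 := by
  have hxi : x⁻¹ = x := inv_eq_of_mul_eq_one_right hx
  have e : Subgroup.closure (insert x S) = Subgroup.closure S ⊔ Subgroup.zpowers x := by
    rw [Set.insert_eq, Subgroup.closure_union, ← Subgroup.zpowers_eq_closure, sup_comm]
  rw [e]
  exact card_sup_zpowers_le _ x two_pos (by rw [sq, hx])
    (mem_normalizer_closure S x fun s hs => by rw [hxi]; exact h s hs)

theorem conj_mem_of_normalizer {B : Subgroup E} {x : E} (hx : x * x = 1)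
    (hn : x ∈ Subgroup.normalizer (B : Set E)) {S : Set E} (hS : (B : Set E) ⊆ S) {s : E}
    (hs : s ∈ B) : x * s * x ∈ Subgroup.closure S := by
  have := (Subgroup.mem_normalizer_iff.1 hn s).1 hs
  rw [inv_eq_of_mul_eq_one_right hx] at this
  exact Subgroup.subset_closure (hS this)

theorem conj_mem_of_comm {x : E} (hx : x * x = 1) {S : Set E} {s : E} (hc : x * s = s * x)
    (hs : s ∈ S) : x * s * x ∈ Subgroup.closure S := by
  rw [hc, mul_assoc, hx, mul_one]
  exact Subgroup.subset_closure hs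

theorem mem_normalizer_of_sq (B : Subgroup E) {x y : E}
    (hx : x ∈ Subgroup.normalizer (B : Set E)) (hy : y ∈ Subgroup.normalizer (B : Set E)) :
    x * y * (x * y) ∈ Subgroup.normalizer (B : Set E) :=
  mul_mem (mul_mem hx hy) (mul_mem hx hy)

/-- The bound for the group with the relations of `U₄(2)` over a normalised subgroup. -/
theorem bound_u4 (B : Subgroup E) {a b c u w t : E}
    (hu : u = a * b * (a * b)) (hw : w = b * c * (b * c)) (ht : t = a * w * (a * w))
    (na : a ∈ Subgroup.normalizer (B : Set E)) (nb : b ∈ Subgroup.normalizer (B : Set E))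
    (nc : c ∈ Subgroup.normalizer (B : Set E))
    (sa : a * a = 1) (sb : b * b = 1) (sc : c * c = 1) (su : u * u = 1) (sw : w * w = 1)
    (st : t * t = 1) (ac : a * c = c * a) (au : a * u = u * a) (bu : b * u = u * b)
    (bw : b * w = w * b) (cw : c * w = w * c) (uw : u * w = w * u) (ta : t * a = a * t)
    (tb : t * b = b * t) (tc : t * c = c * t) (tu : t * u = u * t) (tw : t * w = w * t) :
    ∃ T : Subgroup E, B ≤ T ∧ a ∈ T ∧ b ∈ T ∧ c ∈ T ∧ Nat.card T ≤ Nat.card B * 64 := by
  have nu : u ∈ Subgroup.normalizer (B : Set E) := hu ▸ mem_normalizer_of_sq B na nb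
  have nw : w ∈ Subgroup.normalizer (B : Set E) := hw ▸ mem_normalizer_of_sq B nb nc
  have nt : t ∈ Subgroup.normalizer (B : Set E) := ht ▸ mem_normalizer_of_sq B na nw
  have hder : u * c * (u * c) = t :=
    derived_relation sa sb sc ac hu hw sw su ht bw tb.symm ta.symm
  let S0 : Set E := (B : Set E)
  let S1 : Set E := insert t S0
  let S2 : Set E := insert u S1
  let S3 : Set E := insert w S2
  let S4 : Set E := insert a S3
  let S5 : Set E := insert b S4
  let S6 : Set E := insert c S5
  have h0 : Subgroup.closure S0 = B := Subgroup.closure_eq B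
  have b1 : Nat.card (Subgroup.closure S1) ≤ Nat.card (Subgroup.closure S0) * 2 :=
    card_closure_insert_le S0 t st fun s hs =>
    conj_mem_of_normalizer st nt (Set.Subset.refl _) hs
  have b2 : Nat.card (Subgroup.closure S2) ≤ Nat.card (Subgroup.closure S1) * 2 :=
    card_closure_insert_le S1 u su fun s hs => by
    rcases hs with rfl | hs
    · exact conj_mem_of_comm su tu.symm (Or.inl rfl)
    · exact conj_mem_of_normalizer su nu (fun y hy => Or.inr hy) hs
  have b3 : Nat.card (Subgroup.closure S3) ≤ Nat.card (Subgroup.closure S2) * 2 :=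
    card_closure_insert_le S2 w sw fun s hs => by
    rcases hs with rfl | rfl | hs
    · exact conj_mem_of_comm sw uw.symm (Or.inl rfl)
    · exact conj_mem_of_comm sw tw.symm (Or.inr (Or.inl rfl))
    · exact conj_mem_of_normalizer sw nw (fun y hy => Or.inr (Or.inr hy)) hs
  have b4 : Nat.card (Subgroup.closure S4) ≤ Nat.card (Subgroup.closure S3) * 2 :=
    card_closure_insert_le S3 a sa fun s hs => by
    rcases hs with rfl | rfl | rfl | hs
    · have : a * s * a = t * s := by
        rw [ht]; simp only [mul_assoc]; rw [sw, mul_one]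
      rw [this]
      exact mul_mem (Subgroup.subset_closure (Or.inr (Or.inr (Or.inl rfl))))
        (Subgroup.subset_closure (Or.inl rfl))
    · exact conj_mem_of_comm sa au (Or.inr (Or.inl rfl))
    · exact conj_mem_of_comm sa ta.symm (Or.inr (Or.inr (Or.inl rfl)))
    · exact conj_mem_of_normalizer sa na (fun y hy => Or.inr (Or.inr (Or.inr hy))) hs
  have b5 : Nat.card (Subgroup.closure S5) ≤ Nat.card (Subgroup.closure S4) * 2 :=
    card_closure_insert_le S4 b sb fun s hs => by
    rcases hs with rfl | rfl | rfl | rfl | hs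
    · have : b * s * b = s * u := by
        rw [hu]; simp only [← mul_assoc]; rw [sa, one_mul]
      rw [this]
      exact mul_mem (Subgroup.subset_closure (Or.inl rfl))
        (Subgroup.subset_closure (Or.inr (Or.inr (Or.inl rfl))))
    · exact conj_mem_of_comm sb bw (Or.inr (Or.inl rfl))
    · exact conj_mem_of_comm sb bu (Or.inr (Or.inr (Or.inl rfl)))
    · exact conj_mem_of_comm sb tb.symm (Or.inr (Or.inr (Or.inr (Or.inl rfl))))
    · exact conj_mem_of_normalizer sb nb (fun y hy => Or.inr (Or.inr (Or.inr (Or.inr hy)))) hs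
  have b6 : Nat.card (Subgroup.closure S6) ≤ Nat.card (Subgroup.closure S5) * 2 :=
    card_closure_insert_le S5 c sc fun s hs => by
    rcases hs with rfl | rfl | rfl | rfl | rfl | hs
    · have : c * s * c = s * w := by
        rw [hw]; simp only [← mul_assoc]; rw [sb, one_mul]
      rw [this]
      exact mul_mem (Subgroup.subset_closure (Or.inl rfl))
        (Subgroup.subset_closure (Or.inr (Or.inr (Or.inl rfl))))
    · exact conj_mem_of_comm sc ac.symm (Or.inr (Or.inl rfl))
    · exact conj_mem_of_comm sc cw (Or.inr (Or.inr (Or.inl rfl)))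
    · have : c * s * c = s * t := by
        rw [← hder]; simp only [← mul_assoc]; rw [su, one_mul]
      rw [this]
      exact mul_mem (Subgroup.subset_closure (Or.inr (Or.inr (Or.inr (Or.inl rfl)))))
        (Subgroup.subset_closure (Or.inr (Or.inr (Or.inr (Or.inr (Or.inl rfl))))))
    · exact conj_mem_of_comm sc tc.symm (Or.inr (Or.inr (Or.inr (Or.inr (Or.inl rfl)))))
    · exact conj_mem_of_normalizer sc nc
        (fun y hy => Or.inr (Or.inr (Or.inr (Or.inr (Or.inr hy))))) hs
  refine ⟨Subgroup.closure S6, ?_, ?_, ?_, ?_, ?_⟩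
  · exact fun y hy => Subgroup.subset_closure
      (Or.inr (Or.inr (Or.inr (Or.inr (Or.inr (Or.inr hy))))))
  · exact Subgroup.subset_closure (Or.inr (Or.inr (Or.inl rfl)))
  · exact Subgroup.subset_closure (Or.inr (Or.inl rfl))
  · exact Subgroup.subset_closure (Or.inl rfl)
  · rw [h0] at b1
    omega

/-- The bound for a dihedral group of order 8 over a normalised subgroup. -/
theorem bound_d8 (B : Subgroup E) {a b u : E} (hu : u = a * b * (a * b))
    (na : a ∈ Subgroup.normalizer (B : Set E)) (nb : b ∈ Subgroup.normalizer (B : Set E))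
    (sa : a * a = 1) (sb : b * b = 1) (su : u * u = 1) :
    ∃ T : Subgroup E, B ≤ T ∧ a ∈ T ∧ b ∈ T ∧ Nat.card T ≤ Nat.card B * 8 := by
  have nu : u ∈ Subgroup.normalizer (B : Set E) := hu ▸ mem_normalizer_of_sq B na nb
  have hai : a⁻¹ = a := inv_eq_of_mul_eq_one_right sa
  have hbi : b⁻¹ = b := inv_eq_of_mul_eq_one_right sb
  have hui : u⁻¹ = u := inv_eq_of_mul_eq_one_right su
  let S0 : Set E := (B : Set E)
  let S1 : Set E := insert u S0
  let S2 : Set E := insert a S1
  let S3 : Set E := insert b S2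
  have h0 : Subgroup.closure S0 = B := Subgroup.closure_eq B
  have b1 : Nat.card (Subgroup.closure S1) ≤ Nat.card (Subgroup.closure S0) * 2 :=
    card_closure_insert_le S0 u su fun s hs =>
    conj_mem_of_normalizer su nu (Set.Subset.refl _) hs
  have hui2 : b * a * b * a = u := by
    calc b * a * b * a = b⁻¹ * a⁻¹ * b⁻¹ * a⁻¹ := by rw [hai, hbi]
      _ = u⁻¹ := by rw [hu]; group
      _ = u := hui
  have b2 : Nat.card (Subgroup.closure S2) ≤ Nat.card (Subgroup.closure S1) * 2 :=
    card_closure_insert_le S1 a sa fun s hs => by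
    rcases hs with rfl | hs
    · have : a * s * a = s := by
        calc a * s * a = (a * a) * (b * a * b * a) := by rw [hu]; simp only [mul_assoc]
          _ = s := by rw [sa, one_mul, hui2]
      rw [this]
      exact Subgroup.subset_closure (Or.inl rfl)
    · exact conj_mem_of_normalizer sa na (fun y hy => Or.inr hy) hs
  have b3 : Nat.card (Subgroup.closure S3) ≤ Nat.card (Subgroup.closure S2) * 2 :=
    card_closure_insert_le S2 b sb fun s hs => by
    rcases hs with rfl | rfl | hs
    · have : b * s * b = s * u := by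
        rw [hu]; simp only [← mul_assoc]; rw [sa, one_mul]
      rw [this]
      exact mul_mem (Subgroup.subset_closure (Or.inl rfl))
        (Subgroup.subset_closure (Or.inr (Or.inl rfl)))
    · have : b * s * b = s := by
        calc b * s * b = b * a * b * a * (b * b) := by rw [hu]; simp only [mul_assoc]
          _ = s := by rw [sb, mul_one, hui2]
      rw [this]
      exact Subgroup.subset_closure (Or.inr (Or.inl rfl))
    · exact conj_mem_of_normalizer sb nb (fun y hy => Or.inr (Or.inr hy)) hs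
  refine ⟨Subgroup.closure S3, ?_, ?_, ?_, ?_⟩
  · exact fun y hy => Subgroup.subset_closure (Or.inr (Or.inr (Or.inr hy)))
  · exact Subgroup.subset_closure (Or.inr (Or.inl rfl))
  · exact Subgroup.subset_closure (Or.inl rfl)
  · rw [h0] at b1
    omega

/-- An element conjugate to a power with exponent `r ≢ 1` has a lift of order dividing `p`. -/
theorem pow_lift_eq_one {G : Type*} [Group G] (π : E →* G) (hπ : Function.Surjective π)
    (hc : π.ker ≤ Subgroup.center E) {p : ℕ} (hp : p.Prime) (hk : ∀ v ∈ π.ker, v ^ p = 1)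
    {x g : G} {r : ℕ} (hx : x ^ p = 1) (hr : ¬ p ∣ r - 1) (hr1 : 1 ≤ r)
    (hg : g * x = x ^ r * g) {y : E} (hy : π y = x) : y ^ p = 1 := by
  obtain ⟨g', rfl⟩ := hπ g
  have hsk : y ^ p ∈ π.ker := MonoidHom.mem_ker.2 (by rw [map_pow, hy, hx])
  obtain ⟨k, hk'⟩ : ∃ k, (y ^ r)⁻¹ * (g' * y * g'⁻¹) = k := ⟨_, rfl⟩
  have hkk : k ∈ π.ker := by
    rw [← hk', MonoidHom.mem_ker]
    simp only [map_mul, map_inv, map_pow, hy, hg]
    group
  have hy' : g' * y * g'⁻¹ = y ^ r * k := by rw [← hk']; group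
  have hcomm : Commute (y ^ r) k := Subgroup.mem_center_iff.1 (hc hkk) (y ^ r)
  have h1 : g' * y ^ p * g'⁻¹ = y ^ p := by
    rw [Subgroup.mem_center_iff.1 (hc hsk) g', mul_inv_cancel_right]
  rw [← conj_pow, hy', hcomm.mul_pow, hk k hkk, mul_one, ← pow_mul, mul_comm, pow_mul] at h1
  have h2 : (y ^ p) ^ (r - 1) = 1 := by
    have : (y ^ p) ^ (r - 1) * (y ^ p) = 1 * (y ^ p) := by
      rw [← pow_succ, Nat.sub_add_cancel hr1, h1, one_mul]
    exact mul_right_cancel this
  have h4 := (pow_gcd_eq_one (a := y ^ p)).mpr ⟨hk _ hsk, h2⟩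
  rwa [(Nat.Prime.coprime_iff_not_dvd hp).2 hr, pow_one] at h4

/-- Adjoining a normalising element of order dividing `p` to a generated subgroup. -/
theorem card_closure_insert_pow_le (S : Set E) (x : E) {p : ℕ} (hp : 0 < p) (hx : x ^ p = 1)
    (h : ∀ s ∈ S, x * s * x⁻¹ ∈ Subgroup.closure S) :
    Nat.card (Subgroup.closure (insert x S)) ≤ Nat.card (Subgroup.closure S) * p := by
  have e : Subgroup.closure (insert x S) = Subgroup.closure S ⊔ Subgroup.zpowers x := by
    rw [Set.insert_eq, Subgroup.closure_union, ← Subgroup.zpowers_eq_closure, sup_comm]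
  rw [e]
  exact card_sup_zpowers_le _ x hp hx (mem_normalizer_closure S x h)

/-- Two commuting elements, one inverted and the other centralised by some element: lifts commute
when the kernel has odd exponent. -/
theorem lift_comm_of_inverted {G : Type*} [Group G] (π : E →* G) (hπ : Function.Surjective π)
    (hc : π.ker ≤ Subgroup.center E) {p : ℕ} (hp : p.Prime) (hp2 : p ≠ 2)
    (hk : ∀ v ∈ π.ker, v ^ p = 1) {x y g : G} (hxy : x * y = y * x) (hgx : g * x = x⁻¹ * g)
    (hgy : g * y = y * g) {x' y' : E} (hx : π x' = x) (hy : π y' = y) : x' * y' = y' * x' := by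
  obtain ⟨g', rfl⟩ := hπ g
  obtain ⟨s, hs⟩ : ∃ s, x' * y' * x'⁻¹ * y'⁻¹ = s := ⟨_, rfl⟩
  have hsk : s ∈ π.ker := by
    rw [← hs, MonoidHom.mem_ker]
    simp only [map_mul, map_inv, hx, hy, hxy]
    group
  have cen : ∀ v ∈ π.ker, ∀ z : E, z * v = v * z := fun v hv z =>
    Subgroup.mem_center_iff.1 (hc hv) z
  obtain ⟨k1, hk1'⟩ : ∃ k, x' * (g' * x' * g'⁻¹) = k := ⟨_, rfl⟩
  obtain ⟨k2, hk2'⟩ : ∃ k, y'⁻¹ * (g' * y' * g'⁻¹) = k := ⟨_, rfl⟩
  have hk1 : k1 ∈ π.ker := by
    rw [← hk1', MonoidHom.mem_ker]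
    simp only [map_mul, map_inv, hx, hgx]
    group
  have hk2 : k2 ∈ π.ker := by
    rw [← hk2', MonoidHom.mem_ker]
    simp only [map_mul, map_inv, hy, hgy]
    group
  have e1 : g' * x' * g'⁻¹ = x'⁻¹ * k1 := by rw [← hk1']; group
  have e2 : g' * y' * g'⁻¹ = y' * k2 := by rw [← hk2']; group
  have h1 : g' * s * g'⁻¹ = s := by rw [cen s hsk g', mul_inv_cancel_right]
  rw [← hs, show g' * (x' * y' * x'⁻¹ * y'⁻¹) * g'⁻¹ = (g' * x' * g'⁻¹) * (g' * y' * g'⁻¹) *
    (g' * x' * g'⁻¹)⁻¹ * (g' * y' * g'⁻¹)⁻¹ by group, e1, e2, hs] at h1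
  have h2 : x'⁻¹ * y' * x' * y'⁻¹ = s := by
    rw [← h1, mul_inv_rev, mul_inv_rev, inv_inv]
    calc x'⁻¹ * y' * x' * y'⁻¹
        = x'⁻¹ * y' * (k1 * k1⁻¹) * x' * (k2 * k2⁻¹) * y'⁻¹ := by group
      _ = x'⁻¹ * (y' * k1) * (k1⁻¹ * x' * k2) * (k2⁻¹ * y'⁻¹) := by group
      _ = x'⁻¹ * (k1 * y') * (k2 * (k1⁻¹ * x')) * (k2⁻¹ * y'⁻¹) := by
          rw [cen _ hk1 y', cen _ hk2 (k1⁻¹ * x')]
      _ = x'⁻¹ * k1 * (y' * k2) * (k1⁻¹ * x') * (k2⁻¹ * y'⁻¹) := by group
  have h3 : s ^ 2 = 1 := by
    have : x' * (x'⁻¹ * y' * x' * y'⁻¹) * x'⁻¹ = s⁻¹ := by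
      rw [show x' * (x'⁻¹ * y' * x' * y'⁻¹) * x'⁻¹ = y' * x' * y'⁻¹ * x'⁻¹ by group, ← hs]
      group
    rw [h2, cen s hsk x', mul_inv_cancel_right] at this
    rw [sq]
    exact mul_eq_one_iff_eq_inv.2 this
  have h4 := (pow_gcd_eq_one (a := s)).mpr ⟨hk _ hsk, h3⟩
  rw [(Nat.coprime_primes hp Nat.prime_two).2 hp2, pow_one] at h4
  rw [h4] at hs
  calc x' * y' = x' * y' * x'⁻¹ * y'⁻¹ * (y' * x') := by group
    _ = y' * x' := by rw [hs, one_mul]

end Cfsg.Agent.SchurSplit
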