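import Mathlib
import Cfsg.Agent.Lib.SchurSplit.Chain
import Cfsg.Agent.Lib.Golay.SylowCert

/-!
Concrete layer: elements of a subgroup of the permutations of the 24 points given by packed codes,
and the checks producing the setting of the splitting argument.
-/

set_option autoImplicit false

namespace Cfsg.Agent.SchurSplit

open Cfsg Cfsg.Agent.Golay24
open scoped commutatorElement

noncomputable section

abbrev P24 : Type := Equiv.Perm GolayPt

/-- A test for membership in a subgroup. -/
structure InTest (H : Subgroup P24) where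
  inH : ℕ → Bool
  valid : ∀ p, inH p = true → validP p = true
  mem : ∀ p, inH p = true → toPerm p ∈ H

variable {H : Subgroup P24}

open Classical in
/-- The element of a packed code. -/
def el (H : Subgroup P24) (p : ℕ) : H := if h : toPerm p ∈ H then ⟨toPerm p, h⟩ else 1

theorem InTest.el_val (I : InTest H) {p : ℕ} (h : I.inH p = true) : (el H p : P24) = toPerm p := by
  rw [el, dif_pos (I.mem p h)]

theorem InTest.el_mul (I : InTest H) {a b c : ℕ} (ha : I.inH a = true) (hb : I.inH b = true)
    (hc : I.inH c = true) (h : compP a b = c) : el H a * el H b = el H c := by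
  apply Subtype.ext
  rw [Subgroup.coe_mul, I.el_val ha, I.el_val hb, I.el_val hc, ← h,
    toPerm_compP (I.valid a ha) (I.valid b hb)]

theorem InTest.el_mul_eq (I : InTest H) {a b c d : ℕ} (ha : I.inH a = true) (hb : I.inH b = true)
    (hc : I.inH c = true) (hd : I.inH d = true) (h : compP a b = compP c d) :
    el H a * el H b = el H c * el H d := by
  apply Subtype.ext
  rw [Subgroup.coe_mul, Subgroup.coe_mul, I.el_val ha, I.el_val hb, I.el_val hc, I.el_val hd,
    mul_eq_of_compP (I.valid a ha) (I.valid b hb) (I.valid c hc) (I.valid d hd) h]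

/-- Index of a vector. -/
def idxV (v : V4) : ℕ := (v 0).val + 2 * (v 1).val + 4 * (v 2).val + 8 * (v 3).val

theorem idxV_add : ∀ v w : V4, idxV (v + w) = idxV v ^^^ idxV w := by decide +kernel

theorem idxV_lt : ∀ v : V4, idxV v < 16 := by decide +kernel

theorem idxV_surj : ∀ i : Fin 16, ∃ v : V4, idxV v = i := by decide +kernel

theorem idxV_zero_iff : ∀ v : V4, idxV v = 0 → v = 0 := by decide +kernel

/-- The first basis vector. -/
def e₀ : V4 := Pi.single 0 1

theorem idxV_e₀ : idxV e₀ = 1 := by decide +kernel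

/-- Checks on the table of the elementary abelian subgroup and on the conjugators. -/
def tabOk (inH : ℕ → Bool) (tab cv : List ℕ) : Bool :=
  ((List.range 16).all fun i => inH (tab.getD i 0) && inH (cv.getD i 0)) &&
  ((List.range 16).all fun i => (List.range 16).all fun j =>
    compP (tab.getD i 0) (tab.getD j 0) == tab.getD (i ^^^ j) 0) &&
  ((List.range 16).all fun i => i == 0 ||
    compP (cv.getD i 0) (tab.getD 1 0) == compP (tab.getD i 0) (cv.getD i 0)) &&
  !(isIdP (tab.getD 1 0))

/-- The vector map. -/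
def fTab (H : Subgroup P24) (tab : List ℕ) (v : V4) : H := el H (tab.getD (idxV v) 0)

theorem tab_in (I : InTest H) {tab cv : List ℕ} (h : tabOk I.inH tab cv = true) {i : ℕ}
    (hi : i < 16) : I.inH (tab.getD i 0) = true ∧ I.inH (cv.getD i 0) = true := by
  simp only [tabOk, Bool.and_eq_true, List.all_eq_true, List.mem_range] at h
  exact h.1.1.1 i hi

/-- The setting from a certificate. -/
def mkExt {E : Type*} [Group E] (I : InTest H) {tab cv : List ℕ}
    (h : tabOk I.inH tab cv = true) (π : E →* H) (hs : Function.Surjective π)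
    (hc : π.ker ≤ Subgroup.center E) (h2 : ∀ v ∈ π.ker, v * v = 1) : TwoExt E H where
  π := π
  surj := hs
  central := hc
  sq := h2
  f := fTab H tab
  hom v w := by
    have h0 := h
    simp only [tabOk, Bool.and_eq_true, List.all_eq_true, List.mem_range, beq_iff_eq] at h0
    exact (I.el_mul (tab_in I h (idxV_lt v)).1 (tab_in I h (idxV_lt w)).1
      (tab_in I h (idxV_lt _)).1
      (by rw [h0.1.1.2 _ (idxV_lt v) _ (idxV_lt w), idxV_add])).symm
  e := e₀
  e_ne := by decide
  f_e_ne := by
    intro he
    have h0 := h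
    simp only [tabOk, Bool.and_eq_true, Bool.not_eq_true'] at h0
    have hin := (tab_in I h (i := 1) (by norm_num)).1
    have h1 : toPerm (tab.getD 1 0) = 1 := by
      rw [← I.el_val hin]
      have : el H (tab.getD 1 0) = 1 := by rw [← idxV_e₀]; exact he
      rw [this]; rfl
    have h2 : isIdP (tab.getD 1 0) = true := by
      simp only [isIdP, List.all_eq_true, List.mem_range, beq_iff_eq]
      intro i hi
      have h3 := idx_toPerm (I.valid _ hin) (pt ⟨i, hi⟩)
      rw [h1, Equiv.Perm.one_apply, idx_pt] at h3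
      exact h3.symm
    rw [h0.2] at h2
    exact Bool.false_ne_true h2
  trans v hv := by
    have h0 := h
    simp only [tabOk, Bool.and_eq_true, List.all_eq_true, List.mem_range, Bool.or_eq_true,
      beq_iff_eq] at h0
    refine ⟨el H (cv.getD (idxV v) 0), ?_⟩
    rcases h0.1.2 _ (idxV_lt v) with h1 | h1
    · exact absurd (idxV_zero_iff v h1) hv
    · show el H _ * el H (tab.getD (idxV e₀) 0) = el H _ * el H _
      rw [idxV_e₀]
      exact I.el_mul_eq (tab_in I h (idxV_lt v)).2 (tab_in I h (i := 1) (by norm_num)).1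
        (tab_in I h (idxV_lt v)).1 (tab_in I h (idxV_lt v)).2 h1

/-- A conjugate of the marked involution. -/
def goodOk (inH : ℕ → Bool) (tab : List ℕ) (x g : ℕ) : Bool :=
  inH x && inH g && inH (tab.getD 1 0) && (compP g (tab.getD 1 0) == compP x g)

theorem good_of_ok {E : Type*} [Group E] (I : InTest H) {tab cv : List ℕ}
    (h : tabOk I.inH tab cv = true) (π : E →* H) (hs : Function.Surjective π)
    (hc : π.ker ≤ Subgroup.center E) (h2 : ∀ v ∈ π.ker, v * v = 1) {x g : ℕ}
    (hx : goodOk I.inH tab x g = true) : Good π (el H x) := by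
  simp only [goodOk, Bool.and_eq_true, beq_iff_eq] at hx
  refine (mkExt I h π hs hc h2).good_of_conj (el H g) ?_
  show el H g * el H (tab.getD (idxV e₀) 0) = el H x * el H g
  rw [idxV_e₀]
  exact I.el_mul_eq hx.1.1.2 hx.1.2 hx.1.1.1 hx.1.1.2 hx.2

/-- Checks on the fixed-point-free pair and the generators of their centralisers. -/
def pairOk (inH : ℕ → Bool) (tab : List ℕ) (h k : ℕ) (gens : List ℕ) : Bool :=
  inH h && inH k && (compP h k == compP k h) && gens.all inH &&
  (([h, k] ++ gens).all fun w => (List.range 16).all fun i => (List.range 16).any fun j =>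
    compP w (tab.getD i 0) == compP (tab.getD j 0) w) &&
  ([h, k].all fun w => (List.range 16).all fun i => (List.range 16).any fun j =>
    compP w (tab.getD j 0) == compP (tab.getD (i ^^^ j) 0) w) &&
  gens.all fun w => compP w h == compP h w || compP w k == compP k w

/-- Checks that words in the generators give the listed elements. -/
def wordOk (inH : ℕ → Bool) (gens : List ℕ) : List ℕ → ℕ → ℕ → Bool
  | [], acc, x => acc == x
  | i :: l, acc, x => Nat.blt i gens.length && inH (compP acc (gens.getD i 0)) &&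
      wordOk inH gens l (compP acc (gens.getD i 0)) x

theorem word_mem (I : InTest H) {gens : List ℕ} (hg : gens.all I.inH = true) (M : Subgroup H)
    (hM : ∀ w ∈ gens, el H w ∈ M) : ∀ (l : List ℕ) (acc x : ℕ), I.inH acc = true →
      wordOk I.inH gens l acc x = true → el H acc ∈ M → el H x ∈ M := by
  intro l
  induction l with
  | nil =>
    intro acc x _ h hm
    simp only [wordOk, beq_iff_eq] at h
    exact h ▸ hm
  | cons i l ih =>
    intro acc x ha h hm
    simp only [wordOk, Bool.and_eq_true, Nat.blt_eq] at h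
    have hmem : gens.getD i 0 ∈ gens := by
      rw [List.getD_eq_getElem _ _ h.1.1]; exact List.getElem_mem _
    refine ih _ x h.1.2 h.2 ?_
    rw [← I.el_mul ha (List.all_eq_true.1 hg _ hmem) h.1.2 rfl]
    exact mul_mem hm (hM _ hmem)

theorem el_idP (I : InTest H) (h : I.inH idP = true) : el H idP = 1 :=
  Subtype.ext (by rw [I.el_val h]; exact toPerm_idP)

/-- The invariant complement, normalised by every lift of the listed elements. -/
theorem exists_B {E : Type*} [Group E] [Finite E] (I : InTest H) {tab cv : List ℕ}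
    (hT : tabOk I.inH tab cv = true) (π : E →* H) (hs : Function.Surjective π)
    (hc : π.ker ≤ Subgroup.center E) (h2 : ∀ v ∈ π.ker, v * v = 1) {h k : ℕ} {gens : List ℕ}
    (hp : pairOk I.inH tab h k gens = true) (hid : I.inH idP = true) :
    ∃ B : Subgroup E, Nat.card B ≤ 16 ∧ (∀ i < 16, ∃ y ∈ B, π y = el H (tab.getD i 0)) ∧
      ∀ (l : List ℕ) (x : ℕ), wordOk I.inH gens l idP x = true →
        ∀ y : E, π y = el H x → y ∈ Subgroup.normalizer (B : Set E) := by
  simp only [pairOk, Bool.and_eq_true, List.all_eq_true, List.mem_range, List.any_eq_true,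
    Bool.or_eq_true, beq_iff_eq, List.mem_cons, List.mem_append, List.not_mem_nil, or_false] at hp
  obtain ⟨⟨⟨⟨⟨⟨hh, hk⟩, hhk⟩, hgens⟩, hnorm⟩, hfpf⟩, hcent⟩ := hp
  have nrm : ∀ w, ((w = h ∨ w = k) ∨ w ∈ gens) → I.inH w = true → ∀ v : V4,
      ∃ v', el H w * fTab H tab v = fTab H tab v' * el H w := by
    intro w hw hwin v
    obtain ⟨j, hj, e⟩ := hnorm w hw (idxV v) (idxV_lt v)
    obtain ⟨v', hv'⟩ := idxV_surj ⟨j, hj⟩
    refine ⟨v', ?_⟩
    show el H w * el H _ = el H (tab.getD (idxV v') 0) * el H w
    rw [hv']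
    exact I.el_mul_eq hwin (tab_in I hT (idxV_lt v)).1 (tab_in I hT hj).1 hwin e
  have fpf : ∀ w, (w = h ∨ w = k) → I.inH w = true → ∀ v : V4,
      ∃ u, ⁅el H w, fTab H tab u⁆ = fTab H tab v := by
    intro w hw hwin v
    obtain ⟨j, hj, e⟩ := hfpf w hw (idxV v) (idxV_lt v)
    obtain ⟨u, hu⟩ := idxV_surj ⟨j, hj⟩
    refine ⟨u, ?_⟩
    have e1 : el H w * fTab H tab u = fTab H tab (v + u) * el H w := by
      show el H w * el H (tab.getD (idxV u) 0) = el H (tab.getD (idxV (v + u)) 0) * el H w
      rw [idxV_add, hu]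
      exact I.el_mul_eq hwin (tab_in I hT hj).1
        (tab_in I hT (Nat.xor_lt_two_pow (n := 4) (idxV_lt v) hj)).1 hwin e
    have hsq : fTab H tab u * fTab H tab u = 1 := by
      have hom := (mkExt I hT π hs hc h2).hom
      have h1 : fTab H tab (u + u) = fTab H tab u * fTab H tab u := hom u u
      have h0 : fTab H tab (0 + 0) = fTab H tab 0 * fTab H tab 0 := hom 0 0
      rw [add_zero] at h0
      rw [← h1, v4_add_self]
      exact mul_left_cancel (a := fTab H tab 0) (by rw [mul_one, ← h0])
    rw [commutatorElement_def, e1, mul_inv_cancel_right, inv_eq_of_mul_eq_one_right hsq]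
    have hom := (mkExt I hT π hs hc h2).hom v u
    show fTab H tab (v + u) * fTab H tab u = fTab H tab v
    rw [show fTab H tab (v + u) = fTab H tab v * fTab H tab u from hom, mul_assoc, hsq, mul_one]
  obtain ⟨B, hB, hsur, -, hinv⟩ := (mkExt I hT π hs hc h2).exists_complement (el H h) (el H k)
    (fpf h (Or.inl rfl) hh) (fpf k (Or.inr rfl) hk) (nrm h (Or.inl (Or.inl rfl)) hh)
    (nrm k (Or.inl (Or.inr rfl)) hk) (I.el_mul_eq hh hk hk hh hhk)
  refine ⟨B, hB, fun i hi => ?_, fun l x hl y hy => ?_⟩
  · obtain ⟨v, hv⟩ := idxV_surj ⟨i, hi⟩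
    obtain ⟨y, hy, hyv⟩ := hsur v
    exact ⟨y, hy, hyv.trans (by show el H (tab.getD (idxV v) 0) = _; rw [hv])⟩
  have hgen : ∀ w ∈ gens, el H w ∈ (Subgroup.normalizer (B : Set E)).map π := by
    intro w hw
    obtain ⟨y', hy'⟩ := hs (el H w)
    refine ⟨y', hinv (el H w) ?_ (nrm w (Or.inr hw) (hgens w hw)) y' hy', hy'⟩
    rcases hcent w hw with e | e
    · exact Or.inl (I.el_mul_eq (hgens w hw) hh hh (hgens w hw) e)
    · exact Or.inr (I.el_mul_eq (hgens w hw) hk hk (hgens w hw) e)
  have := word_mem I (List.all_eq_true.2 hgens) _ hgen l idP x hid hl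
    (by rw [el_idP I hid]; exact one_mem _)
  obtain ⟨z, hz, hzy⟩ := this
  have hk1 : z⁻¹ * y ∈ Subgroup.normalizer (B : Set E) := by
    have hker : z⁻¹ * y ∈ π.ker := by
      rw [MonoidHom.mem_ker, map_mul, map_inv, hzy, hy, inv_mul_cancel]
    have hcz := Subgroup.mem_center_iff.1 (hc hker)
    rw [Subgroup.mem_normalizer_iff]
    intro b
    rw [← hcz b, mul_inv_cancel_right]
  have := mul_mem hz hk1
  rwa [mul_inv_cancel_left] at this

/-- Check for a lift of prime order. -/
def primeOk (inH : ℕ → Bool) (p r x g : ℕ) : Bool :=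
  inH x && inH g && isIdP (powP x p) && !(isIdP x) && (compP g x == compP (powP x r) g) &&
  Nat.blt 1 r

/-- Step for a prime whose Sylow subgroup has that prime order. -/
theorem false_of_prime {E : Type*} [Group E] [Finite E] (I : InTest H) (π : E →* H)
    (hs : Function.Surjective π) (hc : π.ker ≤ Subgroup.center E) {p : ℕ} (hp : p.Prime)
    (hcard : Nat.card π.ker = p) (hd : π.ker ≤ commutator E) {r x g : ℕ}
    (hr : ¬ p ∣ r - 1) (h : primeOk I.inH p r x g = true) {m : ℕ}
    (hH : Nat.card H = p * m) (hm : ¬ p ∣ m) : False := by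
  simp only [primeOk, Bool.and_eq_true, Bool.not_eq_true', beq_iff_eq, Nat.blt_eq] at h
  obtain ⟨⟨⟨⟨⟨hx, hg⟩, hid⟩, hne⟩, he⟩, hr1⟩ := h
  have hpow : ∀ n, 1 ≤ n → validP (powP x n) = true ∧ toPerm (powP x n) = toPerm x ^ n := by
    intro n hn
    obtain ⟨m', rfl⟩ : ∃ m', n = m' + 1 := ⟨n - 1, by omega⟩
    exact toPerm_powP (I.valid x hx) m'
  have hxp : el H x ^ p = 1 := by
    apply Subtype.ext
    rw [SubgroupClass.coe_pow, I.el_val hx, ← (hpow p hp.one_le).2]
    exact toPerm_eq_one_of_isIdP (hpow p hp.one_le).1 hid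
  have hconj : el H g * el H x = el H x ^ r * el H g := by
    apply Subtype.ext
    rw [Subgroup.coe_mul, Subgroup.coe_mul, SubgroupClass.coe_pow, I.el_val hx, I.el_val hg,
      ← (hpow r (by omega)).2]
    exact mul_eq_of_compP (I.valid g hg) (I.valid x hx) (hpow r (by omega)).1 (I.valid g hg) he
  have hk : ∀ v ∈ π.ker, v ^ p = 1 := fun v hv => by
    have := pow_card_eq_one' (x := (⟨v, hv⟩ : π.ker))
    rw [hcard] at this
    simpa [Subtype.ext_iff] using this
  obtain ⟨y, hy⟩ := hs (el H x)
  have hyp := pow_lift_eq_one π hs hc hp hk hxp hr (by omega) hconj hy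
  have hne1 : el H x ≠ 1 := by
    intro h1
    have h2 : toPerm x = 1 := by rw [← I.el_val hx, h1]; rfl
    have h3 : isIdP x = true := by
      simp only [isIdP, List.all_eq_true, List.mem_range, beq_iff_eq]
      intro i hi
      have h4 := idx_toPerm (I.valid x hx) (pt ⟨i, hi⟩)
      rw [h2, Equiv.Perm.one_apply, idx_pt] at h4
      exact h4.symm
    rw [hne] at h3
    exact Bool.false_ne_true h3
  haveI : Fact p.Prime := ⟨hp⟩
  have hordy : Nat.card (Subgroup.zpowers y) ≤ p := by
    rw [Nat.card_zpowers]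
    exact Nat.le_of_dvd hp.pos (orderOf_dvd_of_pow_eq_one hyp)
  have hmap : Nat.card ((Subgroup.zpowers y).map π) = p := by
    rw [MonoidHom.map_zpowers, hy, Nat.card_zpowers, orderOf_eq_prime hxp hne1]
  refine false_of_split π hs hc hp hcard hd (Subgroup.zpowers y) (hordy.trans hmap.ge) ?_
  have hi := Subgroup.card_mul_index ((Subgroup.zpowers y).map π)
  rw [hmap, hH] at hi
  rw [Nat.eq_of_mul_eq_mul_left hp.pos hi]
  exact (Nat.Prime.coprime_iff_not_dvd hp).2 hm

/-- A prime not dividing the order. -/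
theorem false_of_not_dvd {E G : Type*} [Group E] [Finite E] [Group G] (π : E →* G)
    (hs : Function.Surjective π) (hc : π.ker ≤ Subgroup.center E) {p : ℕ} (hp : p.Prime)
    (hcard : Nat.card π.ker = p) (hd : π.ker ≤ commutator E) (hG : ¬ p ∣ Nat.card G) : False := by
  refine false_of_split π hs hc hp hcard hd ⊥ (by simp) ?_
  rw [Subgroup.map_bot, Subgroup.index_bot]
  exact (Nat.Prime.coprime_iff_not_dvd hp).2 hG


/-- Distinct elements given by words inside a subgroup bound its order from below. -/
theorem card_ge_of_words (I : InTest H) {base : List ℕ} (hb : base.all I.inH = true)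
    (hid : I.inH idP = true) (M : Subgroup H) (hM : ∀ g ∈ base, el H g ∈ M)
    (ws : List (List ℕ)) (xs : List ℕ) (hlen : ws.length = xs.length)
    (hw : ((xs.zip ws).all fun q => wordOk I.inH base q.2 idP q.1) = true)
    (hx : (xs.all fun p => I.inH p && (compP p idP == p)) = true) (hnd : xs.Nodup) :
    xs.length ≤ Nat.card M := by
  classical
  simp only [List.all_eq_true, Bool.and_eq_true, beq_iff_eq] at hx
  have hmem : ∀ i : Fin xs.length, el H xs[i] ∈ M := fun i => by
    have hz : (xs[i], ws[i.1]'(by omega)) ∈ xs.zip ws := by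
      rw [List.mem_iff_getElem]
      exact ⟨i, by rw [List.length_zip]; omega, by rw [List.getElem_zip]; rfl⟩
    exact word_mem I hb M hM _ idP _ hid (List.all_eq_true.1 hw _ hz)
      (by rw [el_idP I hid]; exact one_mem _)
  have hinj : Function.Injective fun i => (⟨el H xs[i], hmem i⟩ : M) := by
    intro i j hij
    have h1 : el H xs[i] = el H xs[j] := congrArg Subtype.val hij
    have hi := hx xs[i] (List.getElem_mem _)
    have hj := hx xs[j] (List.getElem_mem _)
    have h2 : toPerm xs[i] = toPerm xs[j] := by rw [← I.el_val hi.1, ← I.el_val hj.1, h1]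
    have h3 := toPerm_inj (I.valid _ hi.1) (I.valid _ hj.1) hi.2 hj.2 h2
    exact Fin.ext ((hnd.getElem_inj_iff).1 h3)
  simpa using Nat.card_le_card_of_injective _ hinj

/-- The inverse of an element of order three is its square. -/
theorem el_inv_of_cube (I : InTest H) {x : ℕ} (hx : I.inH x = true)
    (h3 : isIdP (powP x 3) = true) : el H x ^ 3 = 1 := by
  obtain ⟨hv, he⟩ := toPerm_powP (I.valid x hx) 2
  apply Subtype.ext
  rw [SubgroupClass.coe_pow, I.el_val hx, ← he]
  exact toPerm_eq_one_of_isIdP hv h3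

/-- A conjugation into the square, read off from the codes. -/
theorem el_conj_sq (I : InTest H) {x g : ℕ} (hx : I.inH x = true) (hg : I.inH g = true)
    (h : compP g x = compP (powP x 2) g) : el H g * el H x = el H x ^ 2 * el H g := by
  obtain ⟨hv, he⟩ := toPerm_powP (I.valid x hx) 1
  apply Subtype.ext
  rw [Subgroup.coe_mul, Subgroup.coe_mul, SubgroupClass.coe_pow, I.el_val hx, I.el_val hg, ← he]
  exact mul_eq_of_compP (I.valid g hg) (I.valid x hx) hv (I.valid g hg) h

end

end Cfsg.Agent.SchurSplit
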