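import Cfsg.Agent.Lib.SchurSplit.Sylow

/-!
Sylow criteria for small groups: generated subgroups with commuting lifts, semidihedral groups of
order sixteen, nine with a reflection, eight with an element of order seven.
-/

set_option autoImplicit false
set_option linter.unusedSectionVars false

namespace Cfsg.Agent.SchurSplit

open scoped commutatorElement

universe u

variable {E G : Type*} [Group E] [Finite E] [Group G]

/-- Commuting lifts of generators give a commutative preimage. -/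
theorem comap_of_gens (π : E →* G) (hπ : Function.Surjective π) (hc : π.ker ≤ Subgroup.center E)
    (S : Subgroup G) (s : Set G) (hS : S ≤ Subgroup.closure s)
    (h : ∀ x y : E, π x ∈ s → π y ∈ s → Commute x y) :
    ⁅S.comap π, S.comap π⁆ ⊓ π.ker = ⊥ := by
  set T : Set E := π ⁻¹' s ∪ (π.ker : Set E) with hT
  have hTS : S.comap π ≤ Subgroup.closure T := by
    intro x hx
    have hx' : π x ∈ (Subgroup.closure T).map π := by
      refine (Subgroup.closure_le _).2 (fun g hg => ?_) (hS hx)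
      obtain ⟨g', rfl⟩ := hπ g
      exact ⟨g', Subgroup.subset_closure (Or.inl hg), rfl⟩
    obtain ⟨t, ht, hte⟩ := hx'
    have hk : t⁻¹ * x ∈ π.ker := by rw [MonoidHom.mem_ker, map_mul, map_inv, hte, inv_mul_cancel]
    have := mul_mem ht (Subgroup.subset_closure (k := T) (Or.inr hk))
    rwa [mul_inv_cancel_left] at this
  have hTT : ∀ x ∈ T, ∀ y ∈ T, x * y = y * x := by
    rintro x (hx | hx) y (hy | hy)
    · exact h x y hx hy
    · exact Subgroup.mem_center_iff.1 (hc hy) x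
    all_goals exact (Subgroup.mem_center_iff.1 (hc hx) y).symm
  have h1 : Subgroup.closure T ≤ Subgroup.centralizer T :=
    (Subgroup.closure_le _).2 fun x hx => Subgroup.mem_centralizer_iff.2 fun y hy => hTT y hy x hx
  have h2 : ∀ a ∈ Subgroup.closure T, Subgroup.closure T ≤ Subgroup.centralizer ({a} : Set E) :=
    fun a ha => (Subgroup.closure_le _).2 fun y hy =>
      Subgroup.mem_centralizer_singleton_iff.2 (Subgroup.mem_centralizer_iff.1 (h1 ha) y hy)
  refine comap_abelian π S fun x hx y hy x' y' hx' hy' => ?_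
  have ha : x' ∈ Subgroup.closure T := hTS (by rw [Subgroup.mem_comap, hx']; exact hx)
  have hb : y' ∈ Subgroup.closure T := hTS (by rw [Subgroup.mem_comap, hy']; exact hy)
  exact (Subgroup.mem_centralizer_singleton_iff.1 (h2 _ ha hb)).symm

/-- The semidihedral group of order sixteen. -/
theorem comap_of_semidihedral (π : E →* G) (hπ : Function.Surjective π)
    (hc : π.ker ≤ Subgroup.center E) (hcard : Nat.card π.ker = 2) (S : Subgroup G) (a h : G)
    (ha : orderOf a = 8) (hh : h * h = 1) (hconj : h * a * h⁻¹ = a ^ 3)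
    (hS : S ≤ Subgroup.closure {a, h}) : ⁅S.comap π, S.comap π⁆ ⊓ π.ker = ⊥ := by
  have hcen : ∀ v : E, π v = 1 → ∀ x : E, Commute v x := fun v hv x =>
    (Subgroup.mem_center_iff.1 (hc (MonoidHom.mem_ker.2 hv)) x).symm
  have hsq : ∀ v : E, π v = 1 → v * v = 1 := fun v hv => by
    have := pow_card_eq_one' (x := (⟨v, MonoidHom.mem_ker.2 hv⟩ : π.ker))
    rw [hcard] at this
    simpa [pow_two, Subtype.ext_iff] using this
  obtain ⟨A, hA⟩ := hπ a
  obtain ⟨H, hH⟩ := hπ h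
  set w : E := (A ^ 3)⁻¹ * (H * A * H⁻¹) with hw
  have hwk : π w = 1 := by
    rw [hw, map_mul, map_inv, map_pow, map_mul, map_mul, map_inv, hA, hH, hconj, inv_mul_cancel]
  have hconjE : H * A * H⁻¹ = A ^ 3 * w := by rw [hw, mul_inv_cancel_left]
  have hw3 : w ^ 3 = w := by rw [pow_succ, pow_two, hsq w hwk, one_mul]
  have hA8 : A ^ 8 = 1 := by
    have hHH : Commute (H * H) A := hcen _ (by rw [map_mul, hH, hh]) A
    have e : H * (H * A * H⁻¹) * H⁻¹ = A := by
      calc H * (H * A * H⁻¹) * H⁻¹ = H * H * A * (H * H)⁻¹ := by group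
        _ = A := by rw [hHH.eq, mul_inv_cancel_right]
    rw [hconjE] at e
    have e2 : H * (A ^ 3 * w) * H⁻¹ = A ^ 9 := by
      calc H * (A ^ 3 * w) * H⁻¹ = (H * A * H⁻¹) ^ 3 * (H * w * H⁻¹) := by rw [conj_pow]; group
        _ = (A ^ 3 * w) ^ 3 * w := by rw [hconjE, (hcen w hwk H).symm.eq, mul_inv_cancel_right]
        _ = A ^ 9 * (w * w) := by rw [(hcen w hwk (A ^ 3)).symm.mul_pow, ← pow_mul, hw3, mul_assoc]
        _ = A ^ 9 := by rw [hsq w hwk, mul_one]
    rw [e2, pow_succ] at e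
    exact mul_eq_right.1 e
  set c : E := (A * A)⁻¹ * w with hcdef
  have hAc : Commute A c :=
    ((Commute.refl A).mul_right (Commute.refl A)).inv_right.mul_right (hcen w hwk A).symm
  have hHc : H * c * H⁻¹ = c ^ 3 := by
    have e1 : H * c * H⁻¹ = (H * A * H⁻¹ * (H * A * H⁻¹))⁻¹ * (H * w * H⁻¹) := by rw [hcdef]; group
    rw [e1, hconjE, (hcen w hwk H).symm.eq, mul_inv_cancel_right, hcdef,
      (hcen w hwk (A * A)⁻¹).symm.mul_pow, hw3]
    congr 1
    rw [← pow_two, (hcen w hwk (A ^ 3)).symm.mul_pow, pow_two w, hsq w hwk, mul_one, ← pow_mul,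
      ← pow_two, inv_pow, ← pow_mul]
  let T : Subgroup E := Subgroup.closure ({A, H} ∪ (π.ker : Set E))
  let N : Subgroup E := Subgroup.closure {c}
  have hTS : S.comap π ≤ T := by
    intro x hx
    have hx' : π x ∈ T.map π := by
      refine (Subgroup.closure_le _).2 ?_ (hS hx)
      rintro _ (rfl | rfl)
      · exact ⟨A, Subgroup.subset_closure (Or.inl (Or.inl rfl)), hA⟩
      · exact ⟨H, Subgroup.subset_closure (Or.inl (Or.inr rfl)), hH⟩
    obtain ⟨t, ht, hte⟩ := hx'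
    have hk : t⁻¹ * x ∈ π.ker := by rw [MonoidHom.mem_ker, map_mul, map_inv, hte, inv_mul_cancel]
    have := mul_mem ht (Subgroup.subset_closure (k := ({A, H} ∪ (π.ker : Set E))) (Or.inr hk))
    rwa [mul_inv_cancel_left] at this
  have hcN : c ∈ N := Subgroup.subset_closure rfl
  have hTN : T ≤ Subgroup.normalizer (N : Set E) := by
    refine (Subgroup.closure_le _).2 ?_
    rintro x ((rfl | rfl) | hx) <;> refine mem_normalizer_closure _ _ fun s hs => ?_ <;>
      rw [Set.mem_singleton_iff] at hs <;> subst hs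
    · rw [hAc.eq, mul_inv_cancel_right]; exact hcN
    · rw [hHc]; exact pow_mem hcN _
    · rw [(hcen x (MonoidHom.mem_ker.1 hx) c).eq, mul_inv_cancel_right]; exact hcN
  have hgen : ∀ x ∈ ({A, H} ∪ (π.ker : Set E) : Set E), ∀ z ∈ ({A, H} ∪ (π.ker : Set E) : Set E),
      ⁅x, z⁆ ∈ N := by
    have hAH : ⁅A, H⁆ = c := by
      rw [commutatorElement_def, hcdef]
      have e : H * A⁻¹ * H⁻¹ = (A ^ 3 * w)⁻¹ := by rw [← hconjE]; group
      calc A * H * A⁻¹ * H⁻¹ = A * (H * A⁻¹ * H⁻¹) := by group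
        _ = A * (w⁻¹ * (A ^ 3)⁻¹) := by rw [e, mul_inv_rev]
        _ = A * ((A ^ 3)⁻¹ * w) := by
          rw [inv_eq_of_mul_eq_one_right (hsq w hwk), (hcen w hwk _).eq]
        _ = (A * A)⁻¹ * w := by group
    have hone : ∀ x z : E, Commute x z → ⁅x, z⁆ ∈ N := fun x z h => by
      rw [commutatorElement_eq_one_iff_mul_comm.2 h]; exact one_mem N
    rintro x ((rfl | rfl) | hx) z ((rfl | rfl) | hz)
    · exact hone _ _ (Commute.refl _)
    · exact hAH ▸ hcN
    · exact hone _ _ (hcen z (MonoidHom.mem_ker.1 hz) _).symm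
    · rw [← commutatorElement_inv, hAH]; exact inv_mem hcN
    · exact hone _ _ (Commute.refl _)
    · exact hone _ _ (hcen z (MonoidHom.mem_ker.1 hz) _).symm
    all_goals exact hone _ _ (hcen x (MonoidHom.mem_ker.1 hx) _)
  have left : ∀ y ∈ T, (∀ s ∈ ({A, H} ∪ (π.ker : Set E) : Set E), ⁅s, y⁆ ∈ N) →
      ∀ x ∈ T, ⁅x, y⁆ ∈ N := by
    intro y hy hs x hx
    induction hx using Subgroup.closure_induction with
    | mem s h => exact hs s h
    | one => simp
    | mul x z hx hz ihx ihz =>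
      have e : ⁅x * z, y⁆ = x * ⁅z, y⁆ * x⁻¹ * ⁅x, y⁆ := by
        simp only [commutatorElement_def]; group
      rw [e]
      exact mul_mem ((Subgroup.mem_normalizer_iff.1 (hTN hx) _).1 ihz) ihx
    | inv x hx ih =>
      have e : ⁅x⁻¹, y⁆ = x⁻¹ * ⁅x, y⁆⁻¹ * x := by simp only [commutatorElement_def]; group
      rw [e]
      have h := (Subgroup.mem_normalizer_iff.1 (hTN (inv_mem hx)) _).1 (inv_mem ih)
      rwa [inv_inv] at h
  have hT : ⁅T, T⁆ ≤ N := by
    rw [Subgroup.commutator_le]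
    intro x hx y hy
    refine left y hy (fun s hs => ?_) x hx
    have hsT : s ∈ T := Subgroup.subset_closure hs
    rw [← commutatorElement_inv]
    exact inv_mem (left s hsT (fun t ht => hgen t ht s hs) y hy)
  rw [eq_bot_iff]
  rintro x ⟨hx, hxk⟩
  have hxN : x ∈ Subgroup.zpowers c := by
    rw [Subgroup.zpowers_eq_closure]; exact hT (Subgroup.commutator_mono hTS hTS hx)
  obtain ⟨k, rfl⟩ := Subgroup.mem_zpowers_iff.1 hxN
  have hk : π (c ^ k) = 1 := hxk
  rw [map_zpow, hcdef, map_mul, map_inv, map_mul, hA, hwk, mul_one, inv_zpow, inv_eq_one,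
    ← pow_two, ← zpow_natCast a 2, ← zpow_mul] at hk
  have h1 := orderOf_dvd_iff_zpow_eq_one.2 hk
  rw [ha] at h1
  obtain ⟨r, rfl⟩ : (4 : ℤ) ∣ k := by
    push_cast at h1
    omega
  rw [Subgroup.mem_bot, zpow_mul, show (4 : ℤ) = ((4 : ℕ) : ℤ) from rfl, zpow_natCast, hcdef,
    (hcen w hwk (A * A)⁻¹).symm.mul_pow, inv_pow, ← pow_two, ← pow_mul, hA8, inv_one, one_mul,
    show 4 = 2 * 2 from rfl, pow_mul, pow_two w, hsq w hwk, one_pow, one_zpow]

/-- Two commuting elements of order dividing three, with a reflection. -/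
theorem comap_of_reflection (π : E →* G) (hπ : Function.Surjective π)
    (hc : π.ker ≤ Subgroup.center E) (hcard : Nat.card π.ker = 3) (S : Subgroup G) (a b g : G)
    (hab : a * b = b * a) (hga : g * a * g⁻¹ = a) (hgb : g * b * g⁻¹ = b⁻¹)
    (hS : S ≤ Subgroup.closure {a, b}) : ⁅S.comap π, S.comap π⁆ ⊓ π.ker = ⊥ := by
  obtain ⟨A, hA⟩ := hπ a
  obtain ⟨B, hB⟩ := hπ b
  obtain ⟨T, hT⟩ := hπ g
  have hcen : ∀ v : E, π v = 1 → ∀ x : E, Commute v x := fun v hv x =>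
    (Subgroup.mem_center_iff.1 (hc (MonoidHom.mem_ker.2 hv)) x).symm
  have hker : ∀ {x y : E}, π x = π y → ∃ v, π v = 1 ∧ x = y * v := fun {x y} h =>
    ⟨y⁻¹ * x, by rw [map_mul, map_inv, h, inv_mul_cancel], (mul_inv_cancel_left _ _).symm⟩
  have hv : π ⁅A, B⁆ = 1 := by
    rw [map_commutatorElement, hA, hB, commutatorElement_eq_one_iff_mul_comm]; exact hab
  have hwell : ∀ x y v w : E, π v = 1 → π w = 1 → ⁅x * v, y * w⁆ = ⁅x, y⁆ := by
    intro x y v w hv hw
    simp only [commutatorElement_def, mul_inv_rev]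
    calc x * v * (y * w) * (v⁻¹ * x⁻¹) * (w⁻¹ * y⁻¹)
        = x * v * y * (w * (v⁻¹ * x⁻¹)) * w⁻¹ * y⁻¹ := by group
      _ = x * v * y * ((v⁻¹ * x⁻¹) * w) * w⁻¹ * y⁻¹ := by rw [(hcen w hw _).eq]
      _ = x * (v * y) * v⁻¹ * x⁻¹ * y⁻¹ := by group
      _ = x * (y * v) * v⁻¹ * x⁻¹ * y⁻¹ := by rw [(hcen v hv _).eq]
      _ = x * y * x⁻¹ * y⁻¹ := by group
  obtain ⟨v, hv1, e1⟩ := hker (x := T * A * T⁻¹) (y := A) (by rw [map_mul, map_mul, map_inv, hT, hA, hga])
  obtain ⟨w, hw1, e2⟩ := hker (x := T * B * T⁻¹) (y := B⁻¹)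
    (by rw [map_mul, map_mul, map_inv, map_inv, hT, hB, hgb])
  have h1 : ⁅A, B⁻¹⁆ = ⁅A, B⁆ := by
    rw [← hwell A B⁻¹ v w hv1 hw1, ← e1, ← e2,
      show ⁅T * A * T⁻¹, T * B * T⁻¹⁆ = T * ⁅A, B⁆ * T⁻¹ by simp only [commutatorElement_def]; group,
      (hcen _ hv T).symm.eq, mul_inv_cancel_right]
  have h2 : ⁅A, B⁻¹⁆ = ⁅A, B⁆⁻¹ := by
    calc ⁅A, B⁻¹⁆ = B⁻¹ * ⁅A, B⁆⁻¹ * B := by simp only [commutatorElement_def]; group
      _ = ⁅A, B⁆⁻¹ := by rw [((hcen _ hv B⁻¹).inv_left).symm.eq, mul_assoc, inv_mul_cancel, mul_one]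
  have h3 : ⁅A, B⁆ = 1 := by
    have e : ⁅A, B⁆ ^ 2 = 1 := by rw [pow_two]; nth_rw 2 [← h1]; rw [h2, mul_inv_cancel]
    have e' : ⁅A, B⁆ ^ 3 = 1 := by
      have := pow_card_eq_one' (x := (⟨_, MonoidHom.mem_ker.2 hv⟩ : π.ker))
      rw [hcard] at this
      simpa [Subtype.ext_iff] using this
    rwa [pow_succ, e, one_mul] at e'
  have hAB : Commute A B := commutatorElement_eq_one_iff_mul_comm.1 h3
  refine comap_of_gens π hπ hc S {a, b} hS fun x y hx hy => ?_
  have key : ∀ z : E, π z ∈ ({a, b} : Set G) → ∃ u, π u = 1 ∧ (z = A * u ∨ z = B * u) := by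
    rintro z (hz | hz)
    · obtain ⟨u, hu, e⟩ := hker (hz.trans hA.symm)
      exact ⟨u, hu, Or.inl e⟩
    · obtain ⟨u, hu, e⟩ := hker ((Set.mem_singleton_iff.1 hz).trans hB.symm)
      exact ⟨u, hu, Or.inr e⟩
  obtain ⟨u, hu, rfl | rfl⟩ := key x hx <;> obtain ⟨u', hu', rfl | rfl⟩ := key y hy <;>
    refine commutatorElement_eq_one_iff_mul_comm.1 ((hwell _ _ u u' hu hu').trans ?_) <;>
    first | exact h3 | exact commutatorElement_self _ |
      exact commutatorElement_eq_one_iff_mul_comm.2 hAB.symm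

/-- Three commuting involutions, permuted with period seven. -/
theorem comap_of_seven (π : E →* G) (hπ : Function.Surjective π)
    (hc : π.ker ≤ Subgroup.center E) (hcard : Nat.card π.ker = 2) (S : Subgroup G) (a b c g : G)
    (hab : a * b = b * a) (hac : a * c = c * a) (hbc : b * c = c * b)
    (hga : g * a * g⁻¹ = b) (hgb : g * b * g⁻¹ = c) (hgc : g * c * g⁻¹ = a * c)
    (hS : S ≤ Subgroup.closure {a, b, c}) : ⁅S.comap π, S.comap π⁆ ⊓ π.ker = ⊥ := by
  obtain ⟨A, hA⟩ := hπ a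
  obtain ⟨B, hB⟩ := hπ b
  obtain ⟨C, hC⟩ := hπ c
  obtain ⟨T, hT⟩ := hπ g
  have hcen : ∀ v : E, π v = 1 → ∀ x : E, Commute v x := fun v hv x =>
    (Subgroup.mem_center_iff.1 (hc (MonoidHom.mem_ker.2 hv)) x).symm
  have hsq : ∀ v : E, π v = 1 → v * v = 1 := fun v hv => by
    have := pow_card_eq_one' (x := (⟨v, MonoidHom.mem_ker.2 hv⟩ : π.ker))
    rw [hcard] at this
    simpa [pow_two, Subtype.ext_iff] using this
  have hker : ∀ {x y : E}, π x = π y → ∃ v, π v = 1 ∧ x = y * v := fun {x y} h =>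
    ⟨y⁻¹ * x, by rw [map_mul, map_inv, h, inv_mul_cancel], (mul_inv_cancel_left _ _).symm⟩
  have hwell : ∀ x y v w : E, π v = 1 → π w = 1 → ⁅x * v, y * w⁆ = ⁅x, y⁆ := by
    intro x y v w hv hw
    simp only [commutatorElement_def, mul_inv_rev]
    calc x * v * (y * w) * (v⁻¹ * x⁻¹) * (w⁻¹ * y⁻¹)
        = x * v * y * (w * (v⁻¹ * x⁻¹)) * w⁻¹ * y⁻¹ := by group
      _ = x * v * y * ((v⁻¹ * x⁻¹) * w) * w⁻¹ * y⁻¹ := by rw [(hcen w hw _).eq]
      _ = x * (v * y) * v⁻¹ * x⁻¹ * y⁻¹ := by group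
      _ = x * (y * v) * v⁻¹ * x⁻¹ * y⁻¹ := by rw [(hcen v hv _).eq]
      _ = x * y * x⁻¹ * y⁻¹ := by group
  have hk : ∀ {x y : E}, π x * π y = π y * π x → π ⁅x, y⁆ = 1 := fun h => by
    rw [map_commutatorElement, commutatorElement_eq_one_iff_mul_comm]; exact h
  have hkAB := hk (x := A) (y := B) (by rw [hA, hB]; exact hab)
  have hkAC := hk (x := A) (y := C) (by rw [hA, hC]; exact hac)
  have hkBC := hk (x := B) (y := C) (by rw [hB, hC]; exact hbc)
  have hcon : ∀ {x y x' y' : E}, π (T * x * T⁻¹) = π x' → π (T * y * T⁻¹) = π y' →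
      π ⁅x, y⁆ = 1 → ⁅x', y'⁆ = ⁅x, y⁆ := by
    intro x y x' y' hx hy hxy
    obtain ⟨v, hv, e⟩ := hker hx
    obtain ⟨w, hw, e'⟩ := hker hy
    rw [← hwell x' y' v w hv hw, ← e, ← e',
      show ⁅T * x * T⁻¹, T * y * T⁻¹⁆ = T * ⁅x, y⁆ * T⁻¹ by simp only [commutatorElement_def]; group,
      (hcen _ hxy T).symm.eq, mul_inv_cancel_right]
  have hgA : π (T * A * T⁻¹) = π B := by rw [map_mul, map_mul, map_inv, hT, hA, hB, hga]
  have hgB : π (T * B * T⁻¹) = π C := by rw [map_mul, map_mul, map_inv, hT, hB, hC, hgb]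
  have hgC : π (T * C * T⁻¹) = π (A * C) := by
    rw [map_mul, map_mul, map_inv, map_mul, hT, hA, hC, hgc]
  have hsymm : ∀ {x y : E}, π ⁅x, y⁆ = 1 → ⁅y, x⁆ = ⁅x, y⁆ := fun {x y} h => by
    rw [← commutatorElement_inv]; exact inv_eq_of_mul_eq_one_right (hsq _ h)
  have hadd : ∀ {x y z : E}, π ⁅x, y⁆ = 1 → π ⁅x, z⁆ = 1 → ⁅x, y * z⁆ = ⁅x, y⁆ * ⁅x, z⁆ := by
    intro x y z _ hxz
    have e : ⁅x, y * z⁆ = ⁅x, y⁆ * (y * ⁅x, z⁆ * y⁻¹) := by simp only [commutatorElement_def]; group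
    rw [e, (hcen _ hxz y).symm.eq, mul_inv_cancel_right]
  have h1 : ⁅B, C⁆ = ⁅A, B⁆ := hcon hgA hgB hkAB
  have h2 : ⁅C, A * C⁆ = ⁅B, C⁆ := hcon hgB hgC hkBC
  have h3 : ⁅B, A * C⁆ = ⁅A, C⁆ := hcon hgA hgC hkAC
  rw [hadd (by rw [hsymm hkAC]; exact hkAC) (by simp), commutatorElement_self, mul_one,
    hsymm hkAC] at h2
  rw [hadd (by rw [hsymm hkAB]; exact hkAB) hkBC, hsymm hkAB, h1, hsq _ hkAB] at h3
  rw [← h2, ← h3] at h1
  have hAB1 : Commute A B := commutatorElement_eq_one_iff_mul_comm.1 h1.symm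
  have hAC1 : Commute A C := commutatorElement_eq_one_iff_mul_comm.1 h3.symm
  have hBC1 : Commute B C := commutatorElement_eq_one_iff_mul_comm.1 (h2.symm.trans h3.symm)
  refine comap_of_gens π hπ hc S {a, b, c} hS fun x y hx hy => ?_
  have key : ∀ z : E, π z ∈ ({a, b, c} : Set G) →
      ∃ u, π u = 1 ∧ (z = A * u ∨ z = B * u ∨ z = C * u) := by
    rintro z (hz | hz | hz)
    · obtain ⟨u, hu, e⟩ := hker (hz.trans hA.symm)
      exact ⟨u, hu, Or.inl e⟩
    · obtain ⟨u, hu, e⟩ := hker (hz.trans hB.symm)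
      exact ⟨u, hu, Or.inr (Or.inl e)⟩
    · obtain ⟨u, hu, e⟩ := hker ((Set.mem_singleton_iff.1 hz).trans hC.symm)
      exact ⟨u, hu, Or.inr (Or.inr e)⟩
  obtain ⟨u, hu, rfl | rfl | rfl⟩ := key x hx <;> obtain ⟨u', hu', rfl | rfl | rfl⟩ := key y hy <;>
    refine commutatorElement_eq_one_iff_mul_comm.1 ((hwell _ _ u u' hu hu').trans
      (commutatorElement_eq_one_iff_mul_comm.2 ?_)) <;>
    first | rfl | exact hAB1.eq | exact hAB1.eq.symm | exact hAC1.eq | exact hAC1.eq.symm |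
      exact hBC1.eq | exact hBC1.eq.symm

end Cfsg.Agent.SchurSplit
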