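import Cfsg.Agent.Lib.SchurSplit.Core

/-!
A stem extension with kernel of prime order meets the derived subgroup of the preimage of a Sylow
subgroup; criteria for cyclic, inverted and homocyclic-by-torus Sylow subgroups.
-/

set_option autoImplicit false

namespace Cfsg.Agent.SchurSplit

open scoped commutatorElement

universe u

variable {E G : Type*} [Group E] [Finite E] [Group G]

/-- The kernel of a stem extension of prime order lies in the derived subgroup of the preimage of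
every subgroup of index prime to that order. -/
theorem false_of_derived (π : E →* G) (hπ : Function.Surjective π)
    (hc : π.ker ≤ Subgroup.center E) {p : ℕ} (hp : p.Prime) (hcard : Nat.card π.ker = p)
    (hd : π.ker ≤ commutator E) (S : Subgroup G) (hidx : Nat.Coprime p S.index)
    (hS : ⁅S.comap π, S.comap π⁆ ⊓ π.ker = ⊥) : False := by
  classical
  set W : Subgroup E := S.comap π with hW
  have hWidx : W.index = S.index := Subgroup.index_comap_of_surjective _ hπ
  have hbot : ∀ v ∈ π.ker, v = 1 := by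
    intro v hv
    haveI : W.FiniteIndex := Subgroup.finiteIndex_of_finite
    let φ : W →* Abelianization W := Abelianization.of
    have h0 : MonoidHom.transfer φ v = 1 := Abelianization.commutator_subset_ker _ (hd hv)
    have key : ∀ (k : ℕ) (g₀ : E), g₀⁻¹ * v ^ k * g₀ ∈ W → g₀⁻¹ * v ^ k * g₀ = v ^ k := by
      intro k g₀ _
      rw [Subgroup.mem_center_iff.1 (hc (pow_mem hv k)) g₀⁻¹, inv_mul_cancel_right]
    rw [MonoidHom.transfer_eq_pow φ v key, ← MonoidHom.mem_ker, Abelianization.ker_of] at h0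
    have h3 := Subgroup.mem_map_of_mem W.subtype h0
    rw [Subgroup.map_subtype_commutator] at h3
    have h1 : v ^ W.index = 1 := by
      have h4 : v ^ W.index ∈ ⁅W, W⁆ ⊓ π.ker := ⟨h3, pow_mem hv _⟩
      rwa [hS, Subgroup.mem_bot] at h4
    have h2 : v ^ p = 1 := by
      have := pow_card_eq_one' (x := (⟨v, hv⟩ : π.ker))
      rw [hcard] at this
      simpa [Subtype.ext_iff] using this
    rw [hWidx] at h1
    have := (pow_gcd_eq_one (a := v)).mpr ⟨h2, h1⟩
    rw [hidx] at this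
    simpa using this
  exact hp.one_lt.ne' (hcard.symm.trans (by
    rw [Subgroup.card_eq_one, eq_bot_iff]
    exact fun v hv => hbot v hv))

/-- Preimages of commuting elements of the kernel-central extension. -/
theorem comap_abelian (π : E →* G) (S : Subgroup G)
    (h : ∀ x ∈ S, ∀ y ∈ S, ∀ x' y' : E, π x' = x → π y' = y → Commute x' y') :
    ⁅S.comap π, S.comap π⁆ ⊓ π.ker = ⊥ := by
  have : ⁅S.comap π, S.comap π⁆ = ⊥ := by
    rw [eq_bot_iff, Subgroup.commutator_le]
    intro x hx y hy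
    rw [Subgroup.mem_bot, commutatorElement_eq_one_iff_mul_comm]
    exact h _ hx _ hy x y rfl rfl
  rw [this, bot_inf_eq]

/-- A cyclic subgroup has commutative preimage in a central extension. -/
theorem comap_of_cyclic (π : E →* G) (hπ : Function.Surjective π) (hc : π.ker ≤ Subgroup.center E)
    (S : Subgroup G) [IsCyclic S] : ⁅S.comap π, S.comap π⁆ ⊓ π.ker = ⊥ := by
  obtain ⟨g, hg⟩ := IsCyclic.exists_generator (α := S)
  obtain ⟨A, hA⟩ := hπ (g : G)
  refine comap_abelian π S fun x hx y hy x' y' hx' hy' => ?_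
  have key : ∀ z ∈ S, ∀ z' : E, π z' = z → ∃ (n : ℤ) (v : E), v ∈ π.ker ∧ z' = A ^ n * v := by
    intro z hz z' hz'
    obtain ⟨n, hn⟩ := Subgroup.mem_zpowers_iff.1 (hg ⟨z, hz⟩)
    refine ⟨n, (A ^ n)⁻¹ * z', ?_, (mul_inv_cancel_left _ _).symm⟩
    have e : π A ^ n = z := by rw [hA]; simpa using congrArg Subtype.val hn
    rw [MonoidHom.mem_ker, map_mul, map_inv, map_zpow, e, hz', inv_mul_cancel]
  obtain ⟨n, v, hv, rfl⟩ := key x hx x' hx'
  obtain ⟨m, w, hw, rfl⟩ := key y hy y' hy'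
  have hv' : ∀ e : E, Commute v e := fun e => (Subgroup.mem_center_iff.1 (hc hv) e).symm
  have hw' : ∀ e : E, Commute w e := fun e => (Subgroup.mem_center_iff.1 (hc hw) e).symm
  exact (((Commute.refl A).zpow_zpow n m).mul_right ((hw' _).symm)).mul_left (hv' _)

/-- A group generated by a cyclic subgroup and an element inverting it and squaring to its
involution has no commutator in the kernel of a double cover. -/
theorem comap_of_inverted (π : E →* G) (hπ : Function.Surjective π)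
    (hc : π.ker ≤ Subgroup.center E) (hcard : Nat.card π.ker = 2) (S : Subgroup G) (a h : G)
    (m : ℕ) (hm : Even m) (hm0 : 0 < m) (ha : orderOf a = 2 * m) (hh : h * h = a ^ m)
    (hconj : h * a * h⁻¹ = a⁻¹) (hS : S ≤ Subgroup.closure {a, h}) :
    ⁅S.comap π, S.comap π⁆ ⊓ π.ker = ⊥ := by
  have hcen : ∀ v : E, π v = 1 → ∀ x : E, Commute v x := fun v hv x =>
    (Subgroup.mem_center_iff.1 (hc (MonoidHom.mem_ker.2 hv)) x).symm
  have hsq : ∀ v : E, π v = 1 → v * v = 1 := fun v hv => by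
    have := pow_card_eq_one' (x := (⟨v, MonoidHom.mem_ker.2 hv⟩ : π.ker))
    rw [hcard] at this
    simpa [pow_two, Subtype.ext_iff] using this
  obtain ⟨A, hA⟩ := hπ a
  obtain ⟨H, hH⟩ := hπ h
  set w : E := A * (H * A * H⁻¹) with hw
  have hwk : π w = 1 := by
    rw [hw, map_mul, map_mul, map_mul, map_inv, hA, hH, hconj, mul_inv_cancel]
  have hconjE : H * A * H⁻¹ = A⁻¹ * w := by rw [hw, inv_mul_cancel_left]
  obtain ⟨v0, hv0, hH2⟩ : ∃ v0 : E, π v0 = 1 ∧ H * H = A ^ m * v0 :=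
    ⟨(A ^ m)⁻¹ * (H * H), by rw [map_mul, map_inv, map_pow, map_mul, hA, hH, hh, inv_mul_cancel],
      (mul_inv_cancel_left _ _).symm⟩
  -- the power of the lift is trivial
  have hwm : ∀ k : ℕ, Even k → w ^ k = 1 := fun k ⟨r, hr⟩ => by
    rw [hr, ← two_mul, pow_mul, pow_two, hsq w hwk, one_pow]
  have hA2m : A ^ (2 * m) = 1 := by
    have h1 : H * A ^ m * H⁻¹ = A ^ m := by
      have e : A ^ m = H * H * v0⁻¹ := by rw [hH2, mul_inv_cancel_right]
      have h2 : Commute H (H * H * v0⁻¹) :=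
        ((Commute.refl H).mul_right (Commute.refl H)).mul_right (hcen v0 hv0 H).symm.inv_right
      rw [e, h2.eq, mul_inv_cancel_right]
    have h2 : H * A ^ m * H⁻¹ = A⁻¹ ^ m := by
      rw [← conj_pow, hconjE, (hcen w hwk A⁻¹).symm.mul_pow, hwm m hm, mul_one]
    rw [h2, inv_pow, inv_eq_iff_mul_eq_one, ← pow_add, ← two_mul] at h1
    exact h1
  -- the derived subgroup is generated by `c`
  set c : E := A * A * w with hcdef
  have hAc : Commute A c :=
    ((Commute.refl A).mul_right (Commute.refl A)).mul_right (hcen w hwk A).symm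
  have hHc : H * c * H⁻¹ = c⁻¹ := by
    have e1 : H * c * H⁻¹ = H * A * H⁻¹ * (H * A * H⁻¹) * (H * w * H⁻¹) := by rw [hcdef]; group
    have e2 : H * w * H⁻¹ = w := by rw [(hcen w hwk H).symm.eq, mul_inv_cancel_right]
    rw [e1, e2, hconjE, hcdef]
    apply eq_inv_of_mul_eq_one_left
    have := hcen w hwk
    calc A⁻¹ * w * (A⁻¹ * w) * w * (A * A * w)
        = A⁻¹ * (w * A⁻¹) * (w * w) * (A * A * w) := by group
      _ = A⁻¹ * (A⁻¹ * w) * (A * A * w) := by rw [(this A⁻¹).eq, hsq w hwk, mul_one]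
      _ = A⁻¹ * A⁻¹ * (w * (A * A)) * w := by group
      _ = A⁻¹ * A⁻¹ * (A * A) * (w * w) := by rw [(this (A * A)).eq]; group
      _ = 1 := by rw [hsq w hwk]; group
  let N : Subgroup E := Subgroup.zpowers c
  let T : Subgroup E := Subgroup.closure ({A, H} ∪ (π.ker : Set E))
  have hTS : S.comap π ≤ T := by
    intro x hx
    have hx' : π x ∈ T.map π := by
      refine (Subgroup.closure_le _).2 ?_ (hS hx)
      rintro _ (rfl | rfl)
      · exact ⟨A, Subgroup.subset_closure (Or.inl (Or.inl rfl)), hA⟩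
      · exact ⟨H, Subgroup.subset_closure (Or.inl (Or.inr rfl)), hH⟩
    obtain ⟨t, ht, hte⟩ := hx'
    have hk : t⁻¹ * x ∈ π.ker := by rw [MonoidHom.mem_ker, map_mul, map_inv, hte, inv_mul_cancel]
    have := mul_mem ht (Subgroup.subset_closure (k := ({A, H} ∪ (π.ker : Set E))) (Or.inr hk))
    rwa [mul_inv_cancel_left] at this
  have hTN : T ≤ Subgroup.normalizer (N : Set E) := by
    refine (Subgroup.closure_le _).2 ?_
    have key : ∀ x : E, (x * c * x⁻¹ = c ∨ x * c * x⁻¹ = c⁻¹) → x ∈ Subgroup.normalizer (N : Set E) := by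
      intro x hx
      have hN : N = Subgroup.closure {c} := (Subgroup.zpowers_eq_closure c)
      rw [hN]
      refine mem_normalizer_closure _ x fun s hs => ?_
      rw [Set.mem_singleton_iff] at hs
      subst hs
      rcases hx with e | e <;> rw [e]
      · exact Subgroup.subset_closure rfl
      · exact inv_mem (Subgroup.subset_closure rfl)
    rintro x ((rfl | rfl) | hx)
    · exact key _ (Or.inl (by rw [hAc.eq, mul_inv_cancel_right]))
    · exact key _ (Or.inr hHc)
    · exact key x (Or.inl (by rw [(hcen x (MonoidHom.mem_ker.1 hx) c).eq, mul_inv_cancel_right]))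
  have hgen : ∀ x ∈ ({A, H} ∪ (π.ker : Set E) : Set E), ∀ z ∈ ({A, H} ∪ (π.ker : Set E) : Set E),
      ⁅x, z⁆ ∈ N := by
    have hAH : ⁅A, H⁆ = c := by
      rw [commutatorElement_def, hcdef]
      have e : H * A⁻¹ * H⁻¹ = (A⁻¹ * w)⁻¹ := by rw [← hconjE]; group
      calc A * H * A⁻¹ * H⁻¹ = A * (H * A⁻¹ * H⁻¹) := by group
        _ = A * (w⁻¹ * A) := by rw [e]; group
        _ = A * (w * A) := by rw [inv_eq_of_mul_eq_one_right (hsq w hwk)]
        _ = A * A * w := by rw [(hcen w hwk A).eq, mul_assoc]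
    have hone : ∀ x z : E, Commute x z → ⁅x, z⁆ ∈ N := fun x z h => by
      rw [commutatorElement_eq_one_iff_mul_comm.2 h]; exact one_mem N
    rintro x ((rfl | rfl) | hx) z ((rfl | rfl) | hz)
    · exact hone _ _ (Commute.refl _)
    · exact hAH ▸ Subgroup.mem_zpowers c
    · exact hone _ _ (hcen z (MonoidHom.mem_ker.1 hz) _).symm
    · rw [← commutatorElement_inv, hAH]; exact inv_mem (Subgroup.mem_zpowers c)
    · exact hone _ _ (Commute.refl _)
    · exact hone _ _ (hcen z (MonoidHom.mem_ker.1 hz) _).symm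
    all_goals exact hone _ _ (hcen x (MonoidHom.mem_ker.1 hx) _)
  have hT : ⁅T, T⁆ ≤ N := by
    have hcomm : ∀ x z : E, x ∈ T → z ∈ T → ∀ y : E, y ∈ T → ⁅x, y⁆ ∈ N → ⁅z, y⁆ ∈ N → ⁅x * z, y⁆ ∈ N := by
      intro x z hx _ y _ h1 h2
      have e : ⁅x * z, y⁆ = x * ⁅z, y⁆ * x⁻¹ * ⁅x, y⁆ := by
        simp only [commutatorElement_def]; group
      rw [e]
      exact mul_mem ((Subgroup.mem_normalizer_iff.1 (hTN hx) _).1 h2) h1
    have left : ∀ y ∈ T, (∀ s ∈ ({A, H} ∪ (π.ker : Set E) : Set E), ⁅s, y⁆ ∈ N) →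
        ∀ x ∈ T, ⁅x, y⁆ ∈ N := by
      intro y hy hs x hx
      induction hx using Subgroup.closure_induction with
      | mem s h => exact hs s h
      | one => simp
      | mul x z hx hz ihx ihz => exact hcomm x z hx hz y hy ihx ihz
      | inv x hx ih =>
        have e : ⁅x⁻¹, y⁆ = x⁻¹ * ⁅x, y⁆⁻¹ * x := by simp only [commutatorElement_def]; group
        rw [e]
        have h := (Subgroup.mem_normalizer_iff.1 (hTN (inv_mem hx)) _).1 (inv_mem ih)
        rwa [inv_inv] at h
    rw [Subgroup.commutator_le]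
    intro x hx y hy
    refine left y hy (fun s hs => ?_) x hx
    have hsT : s ∈ T := Subgroup.subset_closure hs
    rw [← commutatorElement_inv]
    exact inv_mem (left s hsT (fun t ht => hgen t ht s hs) y hy)
  rw [eq_bot_iff]
  rintro x ⟨hx, hxk⟩
  obtain ⟨k, rfl⟩ := Subgroup.mem_zpowers_iff.1 (hT (Subgroup.commutator_mono hTS hTS hx))
  have hk : π (c ^ k) = 1 := hxk
  rw [map_zpow, hcdef, map_mul, map_mul, hA, hwk, mul_one, ← pow_two, ← zpow_natCast a 2,
    ← zpow_mul] at hk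
  have h1 := orderOf_dvd_iff_zpow_eq_one.2 hk
  rw [ha] at h1
  push_cast at h1
  obtain ⟨r, rfl⟩ := (mul_dvd_mul_iff_left two_ne_zero).1 h1
  rw [Subgroup.mem_bot, zpow_mul, zpow_natCast, hcdef,
    (hcen w hwk (A * A)).symm.mul_pow, hwm m hm, mul_one, ← pow_two, ← pow_mul, hA2m, one_zpow]

/-- Lifts of the elements of an additively parametrised abelian subgroup commute, if enough
elements of the extension act on it by scalars. -/
theorem comap_of_torus {R : Type*} [Field R] (π : E →* G) (hπ : Function.Surjective π)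
    (hc : π.ker ≤ Subgroup.center E) (S : Subgroup G) (U : R → G)
    (hU : ∀ a b, U (a + b) = U a * U b) (hS : ∀ g ∈ S, ∃ r, U r = g)
    (u : R) (hne : u ≠ 0) (hu : u ^ 2 + u + 1 ≠ 0)
    (hs : ∃ g : G, ∀ r, g * U r * g⁻¹ = U (u * r))
    (hs1 : ∃ g : G, ∀ r, g * U r * g⁻¹ = U ((1 + u) * r)) :
    ⁅S.comap π, S.comap π⁆ ⊓ π.ker = ⊥ := by
  choose L hL using fun r => hπ (U r)
  have hker : ∀ {x y : E}, π x = π y → ∃ v, (∀ e, Commute v e) ∧ x = y * v := fun {x y} h =>
    ⟨y⁻¹ * x, fun e => (Subgroup.mem_center_iff.1 (hc (by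
      rw [MonoidHom.mem_ker, map_mul, map_inv, h, inv_mul_cancel])) e).symm,
      (mul_inv_cancel_left _ _).symm⟩
  have hwell : ∀ {x x' y y' : E}, π x = π x' → π y = π y' → ⁅x, y⁆ = ⁅x', y'⁆ := by
    intro x x' y y' hx hy
    obtain ⟨v, hv, rfl⟩ := hker hx
    obtain ⟨v', hv', rfl⟩ := hker hy
    simp only [commutatorElement_def, mul_inv_rev]
    calc x' * v * (y' * v') * (v⁻¹ * x'⁻¹) * (v'⁻¹ * y'⁻¹)
        = x' * v * y' * (v' * (v⁻¹ * x'⁻¹)) * v'⁻¹ * y'⁻¹ := by group
      _ = x' * v * y' * ((v⁻¹ * x'⁻¹) * v') * v'⁻¹ * y'⁻¹ := by rw [(hv' _).eq]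
      _ = x' * (v * y') * v⁻¹ * x'⁻¹ * y'⁻¹ := by group
      _ = x' * (y' * v) * v⁻¹ * x'⁻¹ * y'⁻¹ := by rw [(hv _).eq]
      _ = x' * y' * x'⁻¹ * y'⁻¹ := by group
  have hUc : ∀ a b, U a * U b = U b * U a := fun a b => by rw [← hU, ← hU, add_comm]
  have hcz : ∀ a b (e : E), Commute ⁅L a, L b⁆ e := fun a b e =>
    (Subgroup.mem_center_iff.1 (hc (by
      rw [MonoidHom.mem_ker, map_commutatorElement, hL, hL, commutatorElement_eq_one_iff_mul_comm]
      exact hUc a b)) e).symm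
  have haddl : ∀ a b d, ⁅L (a + b), L d⁆ = ⁅L a, L d⁆ * ⁅L b, L d⁆ := by
    intro a b d
    rw [hwell (x := L (a + b)) (x' := L a * L b) (by rw [map_mul, hL, hL, hL, hU]) (rfl : π (L d) = π (L d))]
    have e : ⁅L a * L b, L d⁆ = L a * ⁅L b, L d⁆ * (L a)⁻¹ * ⁅L a, L d⁆ := by
      simp only [commutatorElement_def]; group
    rw [e, (hcz b d (L a)).symm.eq, mul_inv_cancel_right, (hcz b d _).eq]
  have haddr : ∀ a b d, ⁅L d, L (a + b)⁆ = ⁅L d, L a⁆ * ⁅L d, L b⁆ := by
    intro a b d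
    rw [← commutatorElement_inv, haddl, mul_inv_rev, commutatorElement_inv, commutatorElement_inv,
      (hcz d b _).eq]
  have hinv : ∀ s : R, (∃ g : G, ∀ r, g * U r * g⁻¹ = U (s * r)) →
      ∀ a b, ⁅L (s * a), L (s * b)⁆ = ⁅L a, L b⁆ := by
    rintro s ⟨g, hg⟩ a b
    obtain ⟨T, hT⟩ := hπ g
    rw [hwell (x' := T * L a * T⁻¹) (y' := T * L b * T⁻¹)
      (by rw [map_mul, map_mul, map_inv, hT, hL, hL, hg])
      (by rw [map_mul, map_mul, map_inv, hT, hL, hL, hg]),
      show ⁅T * L a * T⁻¹, T * L b * T⁻¹⁆ = T * ⁅L a, L b⁆ * T⁻¹ by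
        simp only [commutatorElement_def]; group,
      (hcz a b T).symm.eq, mul_inv_cancel_right]
  have hu0 : ∀ a b, ⁅L (u * a), L b⁆ = ⁅L a, L (u⁻¹ * b)⁆ := by
    intro a b
    conv_lhs => rw [show b = u * (u⁻¹ * b) by rw [mul_inv_cancel_left₀ hne]]
    exact hinv u hs a (u⁻¹ * b)
  refine comap_abelian π S fun x hx y hy x' y' hx' hy' => ?_
  obtain ⟨a, rfl⟩ := hS x hx
  obtain ⟨b, rfl⟩ := hS y hy
  have hz : u⁻¹ + u + 1 ≠ 0 := by
    intro h
    apply hu
    have : u * (u⁻¹ + u + 1) = 0 := by rw [h, mul_zero]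
    rw [mul_add, mul_add, mul_inv_cancel₀ hne, mul_one] at this
    linear_combination this
  have key : ∀ d, ⁅L a, L ((u⁻¹ + u + 1) * d)⁆ = 1 := by
    intro d
    have e := hinv (1 + u) hs1 a d
    rw [add_mul, add_mul, one_mul, one_mul, haddl, haddr, haddr, hinv u hs, hu0 a d,
      mul_assoc, mul_eq_left] at e
    rw [add_mul, add_mul, one_mul, haddr, haddr]
    rw [← e]
    have h1 := hcz a (u⁻¹ * d)
    have h2 := hcz a (u * d)
    rw [(h1 _).eq, mul_assoc, ← (hcz a d _).eq]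
  refine commutatorElement_eq_one_iff_mul_comm.1 ?_
  rw [hwell (hx'.trans (hL a).symm) (hy'.trans (hL b).symm)]
  have h := key ((u⁻¹ + u + 1)⁻¹ * b)
  rwa [mul_inv_cancel_left₀ hz] at h

end Cfsg.Agent.SchurSplit
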