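import Mathlib
import Cfsg.Agent.Lib.SchurSplit.Mathieu
import Cfsg.Agent.Lib.SchurSplit.Data
import Cfsg.Agent.Lib.Golay.SylowM23

/-!
The Schur multiplier of M23 is trivial: no stem extension has kernel of prime order.
-/

set_option autoImplicit false

namespace Cfsg.Agent.SchurSplit

open Cfsg Cfsg.Agent.Golay24

noncomputable section

/-- Membership test. -/
def m23Test : InTest Spor.M23 where
  inH g := inM24 g && app g 23 == 23
  valid g h := valid_of_inM24 (Bool.and_eq_true_iff.1 h).1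
  mem g h := m23SylHyp.mem g h

theorem m23_tabOk : tabOk m23Test.inH m23Tab m23ConjV = true := by decide +kernel

theorem m23_pairOk : pairOk m23Test.inH m23Tab m23H m23K m23Gens = true := by decide +kernel

theorem m23_idP : m23Test.inH idP = true := by decide +kernel

/-- Named element. -/
def m23A : ℕ := m23Goods.getD 0 0

/-- Named element. -/
def m23B : ℕ := m23Goods.getD 1 0

/-- Named element. -/
def m23U : ℕ := m23Goods.getD 2 0

/-- Generators of the Sylow subgroup. -/
def m23Base : List ℕ := ((List.range 4).map (fun j => m23Tab.getD (2 ^ j) 0) ++ [m23A, m23B])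

theorem m23_checks : ((goodOk m23Test.inH m23Tab m23A (m23ConjG.getD 0 0)) && (goodOk m23Test.inH m23Tab m23B (m23ConjG.getD 1 0)) && (goodOk m23Test.inH m23Tab m23U (m23ConjG.getD 2 0)) && (m23Test.inH (compP m23A m23B) && (compP (compP m23A m23B) (compP m23A m23B) == m23U)) && (wordOk m23Test.inH m23Gens (m23Words.getD 0 []) idP m23A) && (wordOk m23Test.inH m23Gens (m23Words.getD 1 []) idP m23B) && (m23Base.all m23Test.inH)) = true := by decide +kernel

theorem m23_syl : ((m23Syl.gens.zip m23SylWords).all fun q =>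
    wordOk m23Test.inH m23Base q.2 idP q.1) = true ∧ m23SylWords.length = m23Syl.gens.length := by
  decide +kernel

theorem m23_two {E : Type*} [Group E] [Finite E] (π : E →* Spor.M23)
    (hs : Function.Surjective π) (hc : π.ker ≤ Subgroup.center E) (hcard : Nat.card π.ker = 2)
    (hd : π.ker ≤ commutator E) : False := by
  have h2 : ∀ v ∈ π.ker, v * v = 1 := fun v hv => by
    have := pow_card_eq_one' (x := (⟨v, hv⟩ : π.ker))
    rw [hcard, sq] at this
    simpa [Subtype.ext_iff] using this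
  have h := m23_checks
  simp only [Bool.and_eq_true, beq_iff_eq] at h
  obtain ⟨⟨⟨⟨⟨⟨gA, gB⟩, gU⟩, ⟨jU, eU⟩⟩, wA⟩, wB⟩, hbase⟩ := h
  have GA : Good π (el Spor.M23 m23A) := good_of_ok m23Test m23_tabOk π hs hc h2 gA
  have inA : m23Test.inH m23A = true := by
    simp only [goodOk, Bool.and_eq_true] at gA
    exact gA.1.1.1
  have GB : Good π (el Spor.M23 m23B) := good_of_ok m23Test m23_tabOk π hs hc h2 gB
  have inB : m23Test.inH m23B = true := by
    simp only [goodOk, Bool.and_eq_true] at gB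
    exact gB.1.1.1
  have GU : Good π (el Spor.M23 m23U) := good_of_ok m23Test m23_tabOk π hs hc h2 gU
  have inU : m23Test.inH m23U = true := by
    simp only [goodOk, Bool.and_eq_true] at gU
    exact gU.1.1.1
  obtain ⟨B, hB, hBsur, hnorm⟩ := exists_B m23Test m23_tabOk π hs hc h2 m23_pairOk m23_idP
  obtain ⟨a, hA⟩ := hs (el Spor.M23 m23A)
  obtain ⟨b, hB'⟩ := hs (el Spor.M23 m23B)
  obtain ⟨u, duU⟩ : ∃ u, a * b * (a * b) = u := ⟨_, rfl⟩
  have hU : π u = el Spor.M23 m23U := by
    rw [← duU, map_mul, map_mul, hA, hB', m23Test.el_mul inA inB jU rfl]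
    exact m23Test.el_mul jU jU inU eU
  obtain ⟨T, hBT, haT, hbT, hT⟩ := bound_d8 B duU.symm (hnorm _ _ wA a hA) (hnorm _ _ wB b hB')
    (GA a hA) (GB b hB') (GU u hU)
  have hbaseM : ∀ g ∈ m23Base, el Spor.M23 g ∈ T.map π := by
    intro g hg
    simp only [m23Base, List.mem_append, List.mem_map, List.mem_range, List.mem_cons,
      List.not_mem_nil, or_false] at hg
    rcases hg with ⟨j, hj, rfl⟩ | rfl | rfl
    · have hj16 : 2 ^ j < 16 := by
        calc 2 ^ j < 2 ^ 4 := Nat.pow_lt_pow_right (by norm_num) hj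
          _ = 16 := by norm_num
      obtain ⟨y, hy, hyv⟩ := hBsur (2 ^ j) hj16
      exact ⟨y, hBT hy, hyv⟩
    · exact ⟨a, haT, hA⟩
    · exact ⟨b, hbT, hB'⟩
  have hle : m23Syl.grp ≤ (T.map π).map (Subgroup.subtype Spor.M23) := by
    rw [SylCert.grp, Subgroup.closure_le]
    rintro _ ⟨g, hg, rfl⟩
    obtain ⟨i, hi, rfl⟩ := List.mem_iff_getElem.1 hg
    obtain ⟨hw, hlen⟩ := m23_syl
    have hz : (m23Syl.gens[i], m23SylWords[i]'(by omega)) ∈ m23Syl.gens.zip m23SylWords := by
      rw [List.mem_iff_getElem]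
      exact ⟨i, by rw [List.length_zip]; omega, by rw [List.getElem_zip]⟩
    have h1 := word_mem m23Test hbase _ hbaseM _ idP _ m23_idP (List.all_eq_true.1 hw _ hz)
      (by rw [el_idP m23Test m23_idP]; exact one_mem _)
    refine ⟨_, h1, ?_⟩
    exact m23Test.el_val (((SylCert.gens_valid m23SylHyp.grp) hg).2)
  have h3 := Subgroup.card_le_of_le hle
  rw [SylCert.card_grp m23SylHyp.grp, m23SylHyp.len,
    ← Nat.card_congr ((T.map π).equivMapOfInjective _ (Subgroup.subtype_injective _)).toEquiv] at h3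
  have h4 : Nat.card (T.map π) ≤ Nat.card T :=
    Nat.card_le_card_of_surjective _ (π.subgroupMap_surjective T)
  have hk : m23SylHyp.k = 7 := rfl
  rw [hk] at h3
  norm_num at h3
  have h5 := Subgroup.card_mul_index (T.map π)
  rw [card_M23] at h5
  have h3' : 128 ≤ Nat.card ↥(T.map π) := h3
  have h6 : Nat.card (T.map π) = 128 := by omega
  rw [h6] at h5
  refine false_of_split π hs hc Nat.prime_two hcard hd T (by omega) ?_
  rw [show (T.map π).index = 79695 by omega]
  decide

/-- Checks for the prime three. -/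
theorem m23_three_in : ((m23Test.inH m23ThreeA) && (m23Test.inH m23ThreeB) && (m23Test.inH m23ThreeGA) && (m23Test.inH m23ThreeGB)) = true := by decide +kernel

theorem m23_three_eqs :
    (isIdP (powP m23ThreeA 3) && isIdP (powP m23ThreeB 3) &&
    (compP m23ThreeA m23ThreeB == compP m23ThreeB m23ThreeA) &&
    (compP m23ThreeGA m23ThreeA == compP (powP m23ThreeA 2) m23ThreeGA) &&
    (compP m23ThreeGB m23ThreeB == compP (powP m23ThreeB 2) m23ThreeGB) &&
    (compP m23ThreeGA m23ThreeB == compP m23ThreeB m23ThreeGA)) = true := by decide +kernel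

/-- Words for the nine products. -/
def m23ThreeWords : List (List ℕ) :=
  (List.range 9).map fun n => List.replicate (n / 3) 0 ++ List.replicate (n % 3) 1

/-- The nine products. -/
def m23ThreeElems : List ℕ :=
  m23ThreeWords.map fun w =>
    w.foldl (fun acc i => compP acc ([m23ThreeA, m23ThreeB].getD i 0)) idP

theorem m23_three_words :
    (([m23ThreeA, m23ThreeB].all m23Test.inH) &&
    (m23ThreeElems.zip m23ThreeWords).all
      (fun q => wordOk m23Test.inH [m23ThreeA, m23ThreeB] q.2 idP q.1) &&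
    m23ThreeElems.all (fun p => m23Test.inH p && (compP p idP == p))) = true ∧
    m23ThreeElems.Nodup ∧ m23ThreeElems.length = 9 ∧ m23ThreeWords.length = 9 := by
  decide +kernel

theorem m23_three {E : Type*} [Group E] [Finite E] (π : E →* Spor.M23)
    (hs : Function.Surjective π) (hc : π.ker ≤ Subgroup.center E) (hcard : Nat.card π.ker = 3)
    (hd : π.ker ≤ commutator E) : False := by
  have hk : ∀ v ∈ π.ker, v ^ 3 = 1 := fun v hv => by
    have := pow_card_eq_one' (x := (⟨v, hv⟩ : π.ker))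
    rw [hcard] at this
    simpa [Subtype.ext_iff] using this
  have hin := m23_three_in
  have heq := m23_three_eqs
  simp only [Bool.and_eq_true, beq_iff_eq] at hin heq
  obtain ⟨⟨⟨iA, iB⟩, iGA⟩, iGB⟩ := hin
  obtain ⟨⟨⟨⟨⟨pA, pB⟩, eAB⟩, eGA⟩, eGB⟩, eGAB⟩ := heq
  have cA := el_inv_of_cube m23Test iA pA
  have cB := el_inv_of_cube m23Test iB pB
  have hAB := m23Test.el_mul_eq iA iB iB iA eAB
  have hGAB := m23Test.el_mul_eq iGA iB iB iGA eGAB
  have hGA := el_conj_sq m23Test iA iGA eGA
  have hGB := el_conj_sq m23Test iB iGB eGB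
  have inv2 : ∀ x : Spor.M23, x ^ 3 = 1 → x ^ 2 = x⁻¹ := fun x hx =>
    (inv_eq_of_mul_eq_one_left (by rw [← pow_succ, hx])).symm
  obtain ⟨a, ha⟩ := hs (el Spor.M23 m23ThreeA)
  obtain ⟨b, hb⟩ := hs (el Spor.M23 m23ThreeB)
  have hp : (3 : ℕ).Prime := Nat.prime_three
  have a3 := pow_lift_eq_one π hs hc hp hk cA (r := 2) (by norm_num) (by norm_num) hGA ha
  have b3 := pow_lift_eq_one π hs hc hp hk cB (r := 2) (by norm_num) (by norm_num) hGB hb
  have ab : a * b = b * a := lift_comm_of_inverted π hs hc hp (by norm_num) hk hAB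
    (by rw [hGA, inv2 _ cA]) hGAB ha hb
  have b1 : Nat.card (Subgroup.closure ({a} : Set E)) ≤ 3 := by
    rw [← Subgroup.zpowers_eq_closure, Nat.card_zpowers]
    exact Nat.le_of_dvd (by norm_num) (orderOf_dvd_of_pow_eq_one a3)
  have b2 : Nat.card (Subgroup.closure (insert b ({a} : Set E))) ≤
      Nat.card (Subgroup.closure ({a} : Set E)) * 3 :=
    card_closure_insert_pow_le _ b (by norm_num) b3 fun s hs => by
      rw [Set.mem_singleton_iff] at hs
      subst hs
      rw [← ab, mul_inv_cancel_right]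
      exact Subgroup.subset_closure rfl
  obtain ⟨T, hT⟩ : ∃ T, Subgroup.closure (insert b ({a} : Set E)) = T := ⟨_, rfl⟩
  rw [hT] at b2
  obtain ⟨hw, hnd, hlen, hwl⟩ := m23_three_words
  rw [Bool.and_eq_true, Bool.and_eq_true] at hw
  have hge := card_ge_of_words m23Test hw.1.1 m23_idP (T.map π) (by
    intro g hg
    simp only [List.mem_cons, List.not_mem_nil, or_false] at hg
    rw [← hT]
    rcases hg with rfl | rfl
    · exact ⟨a, Subgroup.subset_closure (Or.inr rfl), ha⟩
    · exact ⟨b, Subgroup.subset_closure (Or.inl rfl), hb⟩) m23ThreeWords _ (by rw [hlen, hwl])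
    hw.1.2 hw.2 hnd
  rw [hlen] at hge
  have hge' : 9 ≤ Nat.card ↥(T.map π) := hge
  have hle : Nat.card (T.map π) ≤ Nat.card T :=
    Nat.card_le_card_of_surjective _ (π.subgroupMap_surjective T)
  have h6 : Nat.card (T.map π) = 9 := by omega
  have h5 := Subgroup.card_mul_index (T.map π)
  rw [card_M23, h6] at h5
  refine false_of_split π hs hc hp hcard hd T (by omega) ?_
  rw [show (T.map π).index = 1133440 by omega]
  norm_num

theorem m23_odd : (primeOk m23Test.inH 5 2 (m23Odd.getD 0 (0, 0, 0, 0)).2.2.1 (m23Odd.getD 0 (0, 0, 0, 0)).2.2.2 &&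
    primeOk m23Test.inH 7 2 (m23Odd.getD 1 (0, 0, 0, 0)).2.2.1 (m23Odd.getD 1 (0, 0, 0, 0)).2.2.2 &&
    primeOk m23Test.inH 11 3 (m23Odd.getD 2 (0, 0, 0, 0)).2.2.1 (m23Odd.getD 2 (0, 0, 0, 0)).2.2.2 &&
    primeOk m23Test.inH 23 2 (m23Odd.getD 3 (0, 0, 0, 0)).2.2.1 (m23Odd.getD 3 (0, 0, 0, 0)).2.2.2)
      = true := by decide +kernel

theorem m23_noExt (p : ℕ) (hp : p.Prime) : NoExt ↥Spor.M23 p := by
  intro E _ _ π hs hc hcard hd
  have h := m23_odd
  simp only [Bool.and_eq_true] at h
  by_cases h2 : p = 2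
  · subst h2; exact m23_two π hs hc hcard hd
  by_cases h3 : p = 3
  · subst h3; exact m23_three π hs hc hcard hd
  by_cases h5 : p = 5
  · subst h5
    exact false_of_prime m23Test π hs hc hp hcard hd (r := 2) (by norm_num) h.1.1.1
      (m := 2040192) (by rw [card_M23]) (by norm_num)
  by_cases h7 : p = 7
  · subst h7
    exact false_of_prime m23Test π hs hc hp hcard hd (r := 2) (by norm_num) h.1.1.2
      (m := 1457280) (by rw [card_M23]) (by norm_num)
  by_cases h11 : p = 11
  · subst h11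
    exact false_of_prime m23Test π hs hc hp hcard hd (r := 3) (by norm_num) h.1.2
      (m := 927360) (by rw [card_M23]) (by norm_num)
  by_cases h23 : p = 23
  · subst h23
    exact false_of_prime m23Test π hs hc hp hcard hd (r := 2) (by norm_num) h.2
      (m := 443520) (by rw [card_M23]) (by norm_num)
  refine false_of_not_dvd π hs hc hp hcard hd ?_
  rw [card_M23, show (10200960 : ℕ) = 2 ^ 7 * (3 ^ 2 * (5 * (7 * (11 * 23)))) by norm_num]
  intro hdiv
  have e2 : ∀ q, q.Prime → p ∣ q → p = q := fun q hq hh => (Nat.prime_dvd_prime_iff_eq hp hq).1 hh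
  rcases hp.dvd_mul.1 hdiv with h' | h'
  · exact h2 (e2 2 Nat.prime_two (hp.dvd_of_dvd_pow h'))
  rcases hp.dvd_mul.1 h' with h' | h'
  · exact h3 (e2 3 Nat.prime_three (hp.dvd_of_dvd_pow h'))
  rcases hp.dvd_mul.1 h' with h' | h'
  · exact h5 (e2 5 (by norm_num) h')
  rcases hp.dvd_mul.1 h' with h' | h'
  · exact h7 (e2 7 (by norm_num) h')
  rcases hp.dvd_mul.1 h' with h' | h'
  · exact h11 (e2 11 (by norm_num) h')
  · exact h23 (e2 23 (by norm_num) h')

end

end Cfsg.Agent.SchurSplit
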