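import Cfsg.Agent.Lib.SchurSplit.SmallSylow

/-!
An elementary abelian Sylow 2-subgroup of order eight without a central element of its normaliser
lifts to an abelian group in every double cover.
-/

set_option autoImplicit false
set_option linter.unusedSectionVars false

namespace Cfsg.Agent.SchurSplit

open scoped commutatorElement

variable {E G : Type*} [Group E] [Finite E] [Group G]

/-- A central double cover is abelian over an elementary abelian group of order eight, unless its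
normaliser centralises one of its involutions. -/
theorem comap_of_eight (π : E →* G) (hπ : Function.Surjective π) (hc : π.ker ≤ Subgroup.center E)
    (hcard : Nat.card π.ker = 2) (S : Subgroup G) (f : ZMod 2 → ZMod 2 → ZMod 2 → G)
    (hmul : ∀ a b c a' b' c', f a b c * f a' b' c' = f (a + a') (b + b') (c + c'))
    (hinj : ∀ a b c, f a b c = 1 → a = 0 ∧ b = 0 ∧ c = 0)
    (hmem : ∀ a b c, f a b c ∈ S) (hsurj : ∀ g ∈ S, ∃ a b c, f a b c = g)
    (hN : ∀ x ∈ S, (∀ n ∈ Subgroup.normalizer (S : Set G), n * x = x * n) → x = 1) :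
    ⁅S.comap π, S.comap π⁆ ⊓ π.ker = ⊥ := by
  classical
  choose L hL using hπ
  have hcen : ∀ v : E, π v = 1 → ∀ x : E, Commute v x := fun v hv x =>
    (Subgroup.mem_center_iff.1 (hc (MonoidHom.mem_ker.2 hv)) x).symm
  have habel : ∀ x ∈ S, ∀ y ∈ S, x * y = y * x := by
    intro x hx y hy
    obtain ⟨a, b, c, rfl⟩ := hsurj x hx
    obtain ⟨a', b', c', rfl⟩ := hsurj y hy
    rw [hmul, hmul, add_comm a, add_comm b, add_comm c]
  have hk : ∀ x ∈ S.comap π, ∀ y ∈ S.comap π, π ⁅x, y⁆ = 1 := fun x hx y hy => by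
    rw [map_commutatorElement, commutatorElement_eq_one_iff_mul_comm]
    exact habel _ hx _ hy
  have hl : ∀ x ∈ S.comap π, ∀ y ∈ S.comap π, ∀ r ∈ S.comap π,
      ⁅x * y, r⁆ = ⁅x, r⁆ * ⁅y, r⁆ := fun x hx y hy r hr => by
    rw [show ⁅x * y, r⁆ = x * ⁅y, r⁆ * x⁻¹ * ⁅x, r⁆ by simp only [commutatorElement_def]; group,
      (hcen _ (hk y hy r hr) x).symm.eq, mul_inv_cancel_right, (hcen _ (hk y hy r hr) _).eq]
  obtain ⟨k0, -, hk0u⟩ := (Nat.card_eq_two_iff' (1 : π.ker)).1 hcard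
  let κ : E → ZMod 2 := fun x => if x = 1 then 0 else 1
  have hκ : ∀ x y, π x = 1 → π y = 1 → κ (x * y) = κ x + κ y := by
    intro x y hx hy
    by_cases h1 : x = 1
    · simp [κ, h1]
    by_cases h2 : y = 1
    · simp [κ, h2]
    have e : ∀ z, π z = 1 → z ≠ 1 → z = k0 := fun z hz hne =>
      congrArg Subtype.val (hk0u ⟨z, MonoidHom.mem_ker.2 hz⟩ fun h => hne (congrArg Subtype.val h))
    have h3 : x * y = 1 := by
      have := pow_card_eq_one' (x := (⟨x, MonoidHom.mem_ker.2 hx⟩ : π.ker))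
      rw [hcard] at this
      have e2 : x * x = 1 := by simpa [pow_two, Subtype.ext_iff] using this
      rw [e y hy h2, ← e x hx h1, e2]
    simp only [κ, h3, if_neg h1, if_neg h2, if_pos]
    decide
  have hκ0 : ∀ x, π x = 1 → (κ x = 0 ↔ x = 1) := fun x _ => by
    by_cases h1 : x = 1 <;> simp [κ, h1]
  let l : ZMod 2 → ZMod 2 → ZMod 2 → E := fun a b c => L (f a b c)
  have hlS : ∀ a b c, l a b c ∈ S.comap π := fun a b c => by
    show π (L _) ∈ S
    rw [hL]; exact hmem a b c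
  have hwell : ∀ x ∈ S.comap π, ∀ x', π x = π x' → ∀ y ∈ S.comap π, ⁅x, y⁆ = ⁅x', y⁆ := by
    intro x hx x' he y hy
    have hv : π (x'⁻¹ * x) = 1 := by rw [map_mul, map_inv, he, inv_mul_cancel]
    have hx' : x' ∈ S.comap π := by show π x' ∈ S; rw [← he]; exact hx
    conv_lhs => rw [← mul_inv_cancel_left x' x]
    rw [hl x' hx' _ (mul_mem (inv_mem hx') hx) y hy,
      commutatorElement_eq_one_iff_mul_comm.2 (hcen _ hv y).eq, mul_one]
  have hwell2 : ∀ x ∈ S.comap π, ∀ y ∈ S.comap π, ∀ x' y', π x = π x' → π y = π y' →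
      ⁅x, y⁆ = ⁅x', y'⁆ := by
    intro x hx y hy x' y' h1 h2
    have hx' : x' ∈ S.comap π := by show π x' ∈ S; rw [← h1]; exact hx
    have hy' : y' ∈ S.comap π := by show π y' ∈ S; rw [← h2]; exact hy
    rw [hwell x hx x' h1 y hy, ← commutatorElement_inv, hwell y hy y' h2 x' hx', commutatorElement_inv]
  -- the form
  let B : (ZMod 2 × ZMod 2 × ZMod 2) → (ZMod 2 × ZMod 2 × ZMod 2) → ZMod 2 := fun p r =>
    κ ⁅l p.1 p.2.1 p.2.2, l r.1 r.2.1 r.2.2⁆
  have hBl : ∀ p p' r, B (p + p') r = B p r + B p' r := by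
    intro p p' r
    show κ _ = κ _ + κ _
    rw [← hκ _ _ (hk _ (hlS _ _ _) _ (hlS _ _ _)) (hk _ (hlS _ _ _) _ (hlS _ _ _)),
      ← hl _ (hlS _ _ _) _ (hlS _ _ _) _ (hlS _ _ _),
      hwell _ (hlS _ _ _) (l p.1 p.2.1 p.2.2 * l p'.1 p'.2.1 p'.2.2) ?_ _ (hlS _ _ _)]
    simp only [l, map_mul, hL, hmul, Prod.fst_add, Prod.snd_add]
  have hBalt : ∀ p, B p p = 0 := fun p => by simp [B, κ]
  have hBsym : ∀ p r, B p r = B r p := by
    intro p r
    have h0 : ∀ x, π x = 1 → κ x⁻¹ = κ x := fun x _ => by by_cases h : x = 1 <;> simp [κ, h]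
    show κ _ = κ _
    rw [← commutatorElement_inv (l r.1 r.2.1 r.2.2), h0 _ (hk _ (hlS _ _ _) _ (hlS _ _ _))]
  have hBr : ∀ p r r', B p (r + r') = B p r + B p r' := fun p r r' => by
    rw [hBsym, hBl, hBsym r, hBsym r']
  set s := B (1, 0, 0) (0, 1, 0) with hs
  set t := B (1, 0, 0) (0, 0, 1) with ht
  set r := B (0, 1, 0) (0, 0, 1) with hr
  have hform : ∀ a b c a' b' c', B (a, b, c) (a', b', c') =
      (a * b' + b * a') * s + (a * c' + c * a') * t + (b * c' + c * b') * r := by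
    have hsm : ∀ (a : ZMod 2) p r, B (a • p) r = a * B p r := by
      intro a p r
      have h0 : B 0 r = 0 := by have := hBl 0 0 r; rwa [add_zero, left_eq_add] at this
      obtain rfl | rfl : a = 0 ∨ a = 1 := by revert a; decide
      · rw [zero_smul, h0, zero_mul]
      · rw [one_smul, one_mul]
    have hdec : ∀ a b c : ZMod 2,
        ((a, b, c) : ZMod 2 × ZMod 2 × ZMod 2) = a • (1, 0, 0) + b • (0, 1, 0) + c • (0, 0, 1) := by
      decide
    have hsm2 : ∀ (a : ZMod 2) p r, B p (a • r) = a * B p r := fun a p r => by rw [hBsym, hsm, hBsym]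
    intro a b c a' b' c'
    rw [hdec a b c, hdec a' b' c']
    simp only [hBl, hBr, hsm, hsm2, hBalt]
    rw [hBsym (0, 1, 0) (1, 0, 0), hBsym (0, 0, 1) (1, 0, 0), hBsym (0, 0, 1) (0, 1, 0), ← hs, ← ht, ← hr]
    ring
  have hzero : ∀ a b c r t s : ZMod 2,
      (r * b + t * a) * s + (r * c + s * a) * t + (t * c + s * b) * r = 0 := by decide
  have hrad : f r t s = 1 := by
    refine hN _ (hmem _ _ _) fun n hn => ?_
    obtain ⟨a, b, c, e⟩ := hsurj _ ((Subgroup.mem_normalizer_iff.1 hn _).1 (hmem r t s))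
    suffices h : a = r ∧ b = t ∧ c = s by
      obtain ⟨rfl, rfl, rfl⟩ := h
      exact (mul_inv_eq_iff_eq_mul.1 e.symm)
    have hz : ∀ a' b' c', B (a, b, c) (a', b', c') = 0 := by
      intro a' b' c'
      obtain ⟨N, rfl⟩ : ∃ N, π N = n := ⟨L n, hL n⟩
      obtain ⟨a₂, b₂, c₂, e₂⟩ := hsurj _ ((Subgroup.mem_normalizer_iff.1 (inv_mem hn) _).1 (hmem a' b' c'))
      rw [inv_inv] at e₂
      have h0 : B (r, t, s) (a₂, b₂, c₂) = 0 := by
        rw [hform]
        exact hzero a₂ b₂ c₂ r t s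
      have h1 := (hκ0 _ (hk _ (hlS r t s) _ (hlS a₂ b₂ c₂))).1 h0
      show κ _ = 0
      rw [hwell2 _ (hlS a b c) _ (hlS a' b' c') (N * l r t s * N⁻¹) (N * l a₂ b₂ c₂ * N⁻¹) ?_ ?_,
        show ⁅N * l r t s * N⁻¹, N * l a₂ b₂ c₂ * N⁻¹⁆ = N * ⁅l r t s, l a₂ b₂ c₂⁆ * N⁻¹ by
          simp only [commutatorElement_def]; group, h1]
      · simp [κ]
      · simp only [l, map_mul, map_inv, hL, e]
      · simp only [l, map_mul, map_inv, hL, e₂]
        group
    have h1 := hz 1 0 0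
    have h2 := hz 0 1 0
    have h3 := hz 0 0 1
    simp only [hform] at h1 h2 h3
    have hne : (a, b, c) = (0, 0, 0) → (r, t, s) = (0, 0, 0) := by
      intro h
      simp only [Prod.mk.injEq] at h
      obtain ⟨rfl, rfl, rfl⟩ := h
      have hf0 : f (0 : ZMod 2) 0 0 = 1 := by
        have := hmul 0 0 0 0 0 0
        simp only [add_zero] at this
        exact mul_eq_left.1 this
      rw [hf0, eq_comm, conj_eq_one_iff] at e
      obtain ⟨q1, q2, q3⟩ := hinj _ _ _ e
      simp [q1, q2, q3]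
    have hne' : (r, t, s) = (0, 0, 0) → (a, b, c) = (0, 0, 0) := by
      intro h
      simp only [Prod.mk.injEq] at h
      rw [h.1, h.2.1, h.2.2] at e
      have hf0 : f (0 : ZMod 2) 0 0 = 1 := by
        have := hmul 0 0 0 0 0 0
        simp only [add_zero] at this
        exact mul_eq_left.1 this
      rw [hf0, mul_one, mul_inv_cancel] at e
      obtain ⟨q1, q2, q3⟩ := hinj _ _ _ e
      simp [q1, q2, q3]
    clear_value r t s
    revert h1 h2 h3 hne hne'
    clear * -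
    revert a b c r t s
    decide
  obtain ⟨hr0, ht0, hs0⟩ := hinj _ _ _ hrad
  rw [eq_bot_iff]
  refine le_trans inf_le_left ?_
  rw [Subgroup.commutator_le]
  intro x hx y hy
  obtain ⟨a, b, c, e⟩ := hsurj _ hx
  obtain ⟨a', b', c', e'⟩ := hsurj _ hy
  rw [Subgroup.mem_bot, hwell2 x hx y hy (l a b c) (l a' b' c') (by simp only [l, hL, e]) (by simp only [l, hL, e'])]
  refine (hκ0 _ (hk _ (hlS _ _ _) _ (hlS _ _ _))).1 ?_
  show B (a, b, c) (a', b', c') = 0
  rw [hform, hs0, ht0, hr0]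
  ring

end Cfsg.Agent.SchurSplit
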