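import Cfsg.Agent.Lib.SchurSplit.SmallMain

set_option autoImplicit false

/-!
No stem extension of `J₁`.
-/

namespace Cfsg.Agent.SchurSplit

open Cfsg.Agent.S0457

local notation "GLJ" => GL (Fin 7) (ZMod 11)

/-- An element of order seven normalising the Sylow subgroup. -/
def j1Seven : List Bool := [true, true, true, true, false, true]

theorem j1_rel :
    (Nat.beq (wp (sylW.getD 1 [] ++ sylW.getD 2 [])) (wp (sylW.getD 2 [] ++ sylW.getD 1 [])) &&
     Nat.beq (wp (sylW.getD 1 [] ++ sylW.getD 6 [])) (wp (sylW.getD 6 [] ++ sylW.getD 1 [])) &&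
     Nat.beq (wp (sylW.getD 2 [] ++ sylW.getD 6 [])) (wp (sylW.getD 6 [] ++ sylW.getD 2 [])) &&
     Nat.beq (wp (j1Seven ++ sylW.getD 1 [])) (wp (sylW.getD 2 [] ++ j1Seven)) &&
     Nat.beq (wp (j1Seven ++ sylW.getD 2 [])) (wp (sylW.getD 6 [] ++ j1Seven)) &&
     Nat.beq (wp (j1Seven ++ sylW.getD 6 []))
       (wp (sylW.getD 1 [] ++ (sylW.getD 6 [] ++ j1Seven))) &&
     Nat.beq (wp (sylW.getD 3 [])) (wp (sylW.getD 1 [] ++ sylW.getD 2 [])) &&
     Nat.beq (wp (sylW.getD 4 [])) (wp (sylW.getD 2 [] ++ sylW.getD 6 [])) &&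
     Nat.beq (wp (sylW.getD 7 [])) (wp (sylW.getD 1 [] ++ sylW.getD 6 [])) &&
     Nat.beq (wp (sylW.getD 5 [])) (wp (sylW.getD 1 [] ++ (sylW.getD 2 [] ++ sylW.getD 6 [])))) =
      true := by
  decide +kernel

theorem comm_three {H : Type*} [Group H] {a b c : H} (h₁ : a * b = b * a) (h₂ : a * c = c * a)
    (h₃ : b * c = c * b) : ∀ x ∈ ({a, b, c} : Set H), ∀ y ∈ ({a, b, c} : Set H), x * y = y * x := by
  rintro x (rfl | rfl | rfl) y (rfl | rfl | rfl) <;>
    first | rfl | exact h₁ | exact h₁.symm | exact h₂ | exact h₂.symm | exact h₃ | exact h₃.symm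

theorem j1_noExt : ∀ p, p.Prime → NoExt ↥Spor.J1 p := by
  intro p hp
  by_cases h2 : p ^ 2 ∣ Nat.card ↥Spor.J1
  swap
  · exact noExt_of_sq_not_dvd hp h2
  have hp2 : p = 2 := by
    rw [card_J1] at h2
    have hle : p ≤ 419 := Nat.le_of_lt_succ ((Nat.pow_lt_pow_iff_left two_ne_zero).1
      (lt_of_le_of_lt (Nat.le_of_dvd (by norm_num) h2) (by norm_num : 175560 < 420 ^ 2)))
    have hall : ∀ q : Fin 420, 2 ≤ (q : ℕ) → ((q : ℕ) ^ 2 ∣ 175560 → (q : ℕ) = 2) := by decide +kernel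
    exact hall ⟨p, Nat.lt_succ_of_le hle⟩ hp.two_le h2
  subst hp2
  have h := j1_rel
  simp only [Bool.and_eq_true] at h
  obtain ⟨⟨⟨⟨⟨⟨⟨⟨⟨h12, h16⟩, h26⟩, hg1⟩, hg2⟩, hg6⟩, h3⟩, h4⟩, h7⟩, h5⟩ := h
  have e : ∀ {a b : List Bool}, Nat.beq (wp a) (wp b) = true → el a = el b :=
    fun h => Subtype.ext (wd_eq h)
  have happ : ∀ a b, el (a ++ b) = el a * el b := fun a b => Subtype.ext (wd_append a b)
  set a := el (sylW.getD 1 [])
  set b := el (sylW.getD 2 [])
  set c := el (sylW.getD 6 [])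
  set g := el j1Seven
  have r12 : a * b = b * a := by rw [← happ, ← happ]; exact e h12
  have r16 : a * c = c * a := by rw [← happ, ← happ]; exact e h16
  have r26 : b * c = c * b := by rw [← happ, ← happ]; exact e h26
  have rga : g * a * g⁻¹ = b := by rw [mul_inv_eq_iff_eq_mul, ← happ, ← happ]; exact e hg1
  have rgb : g * b * g⁻¹ = c := by rw [mul_inv_eq_iff_eq_mul, ← happ, ← happ]; exact e hg2
  have rgc : g * c * g⁻¹ = a * c := by
    rw [mul_inv_eq_iff_eq_mul, mul_assoc, ← happ, ← happ, ← happ]; exact e hg6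
  refine noExt_sylow hp (Subgroup.closure {a, b, c}) ?_ fun E _ _ π hπ hc hcard =>
    comap_of_seven π hπ hc hcard _ a b c g r12 r16 r26 rga rgb rgc le_rfl
  refine not_dvd_index hp _ (k := 3) (m := 21945) (by rw [card_J1]; norm_num) (by norm_num) ?_
  -- eight distinct members
  set T := Subgroup.closure ({a, b, c} : Set ↥Spor.J1)
  have ha : a ∈ T := Subgroup.subset_closure (Or.inl rfl)
  have hb : b ∈ T := Subgroup.subset_closure (Or.inr (Or.inl rfl))
  have hcm : c ∈ T := Subgroup.subset_closure (Or.inr (Or.inr rfl))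
  have hmem : ∀ i : Fin 8, el (sylW.getD i []) ∈ T := by
    intro i
    fin_cases i
    · exact (show el ([] : List Bool) = 1 from rfl) ▸ T.one_mem
    · exact ha
    · exact hb
    · show el (sylW.getD 3 []) ∈ T
      rw [e h3, happ]; exact mul_mem ha hb
    · show el (sylW.getD 4 []) ∈ T
      rw [e h4, happ]; exact mul_mem hb hcm
    · show el (sylW.getD 5 []) ∈ T
      rw [e h5, happ, happ]; exact mul_mem ha (mul_mem hb hcm)
    · exact hcm
    · show el (sylW.getD 7 []) ∈ T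
      rw [e h7, happ]; exact mul_mem ha hcm
  have hinj : Function.Injective fun i : Fin 8 => (⟨_, hmem i⟩ : T) := by
    intro i j hij
    have h' : wd (sylW.getD i []) = wd (sylW.getD j []) :=
      congrArg (fun x : T => ((x : ↥Spor.J1) : GLJ)) hij
    obtain ⟨-, -, hnd, -⟩ := syl_ok
    simp only [List.all_eq_true, List.mem_range, Bool.not_eq_true', decide_eq_false_iff_not] at hnd
    rcases lt_trichotomy (i : ℕ) j with hl | hl | hl
    · exact absurd h'.symm (wd_ne (hnd j j.isLt i hl))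
    · exact Fin.ext hl
    · exact absurd h' (wd_ne (hnd i i.isLt j hl))
  have h8 : 8 ≤ Nat.card T := by simpa using Nat.card_le_card_of_injective _ hinj
  have hcomm : ∀ x ∈ ({a, b, c} : Set ↥Spor.J1), ∀ y ∈ ({a, b, c} : Set ↥Spor.J1), x * y = y * x := by
    exact comm_three r12 r16 r26
  letI := Subgroup.closureCommGroupOfComm hcomm
  have hsqgen : ∀ x ∈ ({a, b, c} : Set ↥Spor.J1), x * x = 1 := by
    obtain ⟨-, hcl, -, -⟩ := syl_ok
    have hsq2 : (Nat.beq (wp (sylW.getD 1 [] ++ sylW.getD 1 [])) (wp []) &&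
        Nat.beq (wp (sylW.getD 2 [] ++ sylW.getD 2 [])) (wp []) &&
        Nat.beq (wp (sylW.getD 6 [] ++ sylW.getD 6 [])) (wp [])) = true := by decide +kernel
    simp only [Bool.and_eq_true] at hsq2
    rintro x (rfl | rfl | rfl) <;> rw [← happ]
    · exact e hsq2.1.1
    · exact e hsq2.1.2
    · exact e hsq2.2
  have hexp : ∀ x ∈ T, x * x = 1 := by
    intro x hx
    induction hx using Subgroup.closure_induction with
    | mem s hs => exact hsqgen s hs
    | one => exact one_mul 1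
    | mul x y hx hy ihx ihy =>
      have hxy : x * y = y * x := congrArg Subtype.val (mul_comm (⟨x, hx⟩ : T) ⟨y, hy⟩)
      calc x * y * (x * y) = x * x * (y * y) := by
            rw [mul_assoc, ← mul_assoc y x y, ← hxy]; group
        _ = 1 := by rw [ihx, ihy, one_mul]
    | inv x hx ih => rw [← mul_inv_rev, ih, inv_one]
  haveI : Fact (Nat.Prime 2) := ⟨Nat.prime_two⟩
  obtain ⟨k, hk⟩ := (IsPGroup.iff_card (p := 2) (G := T)).1 fun x =>
    ⟨1, Subtype.ext (by rw [pow_one, pow_two]; exact hexp x x.2)⟩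
  rw [hk] at h8 ⊢
  refine Nat.pow_dvd_pow 2 ?_
  by_contra hlt
  have := Nat.pow_le_pow_right two_pos (show k ≤ 2 by omega)
  omega

end Cfsg.Agent.SchurSplit
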