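import Mathlib
import Cfsg.Agent.Lib.SchurSplit.Mathieu
import Cfsg.Agent.Lib.SchurSplit.Data
import Cfsg.Agent.Lib.Golay.SylowM24

/-!
The Schur multiplier of M24 is trivial: no stem extension has kernel of prime order.
-/

set_option autoImplicit false

namespace Cfsg.Agent.SchurSplit

open Cfsg Cfsg.Agent.Golay24

noncomputable section

/-- Membership test. -/
def m24Test : InTest M24 where
  inH g := inM24 g
  valid _ h := valid_of_inM24 h
  mem _ h := toPerm_mem_M24 h

theorem m24_tabOk : tabOk m24Test.inH m24Tab m24ConjV = true := by decide +kernel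

theorem m24_pairOk : pairOk m24Test.inH m24Tab m24H m24K m24Gens = true := by decide +kernel

theorem m24_idP : m24Test.inH idP = true := by decide +kernel

/-- Named element. -/
def m24A : ℕ := m24Goods.getD 0 0

/-- Named element. -/
def m24B : ℕ := m24Goods.getD 1 0

/-- Named element. -/
def m24C : ℕ := m24Goods.getD 2 0

/-- Named element. -/
def m24U : ℕ := m24Goods.getD 3 0

/-- Named element. -/
def m24W : ℕ := m24Goods.getD 4 0

/-- Named element. -/
def m24T : ℕ := m24Goods.getD 5 0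

/-- Generators of the Sylow subgroup. -/
def m24Base : List ℕ := ((List.range 4).map (fun j => m24Tab.getD (2 ^ j) 0) ++ [m24A, m24B, m24C])

theorem m24_checks : ((goodOk m24Test.inH m24Tab m24A (m24ConjG.getD 0 0)) && (goodOk m24Test.inH m24Tab m24B (m24ConjG.getD 1 0)) && (goodOk m24Test.inH m24Tab m24C (m24ConjG.getD 2 0)) && (goodOk m24Test.inH m24Tab m24U (m24ConjG.getD 3 0)) && (goodOk m24Test.inH m24Tab m24W (m24ConjG.getD 4 0)) && (goodOk m24Test.inH m24Tab m24T (m24ConjG.getD 5 0)) && (goodOk m24Test.inH m24Tab (compP m24A m24C) (m24ConjG.getD 6 0)) && (m24Test.inH (compP m24A m24C)) && (goodOk m24Test.inH m24Tab (compP m24A m24U) (m24ConjG.getD 7 0)) && (m24Test.inH (compP m24A m24U)) && (goodOk m24Test.inH m24Tab (compP m24B m24U) (m24ConjG.getD 8 0)) && (m24Test.inH (compP m24B m24U)) && (goodOk m24Test.inH m24Tab (compP m24B m24W) (m24ConjG.getD 9 0)) && (m24Test.inH (compP m24B m24W)) && (goodOk m24Test.inH m24Tab (compP m24C m24W) (m24ConjG.getD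 10 0)) && (m24Test.inH (compP m24C m24W)) && (goodOk m24Test.inH m24Tab (compP m24U m24W) (m24ConjG.getD 11 0)) && (m24Test.inH (compP m24U m24W)) && (goodOk m24Test.inH m24Tab (compP m24T m24A) (m24ConjG.getD 12 0)) && (m24Test.inH (compP m24T m24A)) && (goodOk m24Test.inH m24Tab (compP m24T m24B) (m24ConjG.getD 13 0)) && (m24Test.inH (compP m24T m24B)) && (goodOk m24Test.inH m24Tab (compP m24T m24C) (m24ConjG.getD 14 0)) && (m24Test.inH (compP m24T m24C)) && (goodOk m24Test.inH m24Tab (compP m24T m24U) (m24ConjG.getD 15 0)) && (m24Test.inH (compP m24T m24U)) && (goodOk m24Test.inH m24Tab (compP m24T m24W) (m24ConjG.getD 16 0)) && (m24Test.inH (compP m24T m24W)) && (m24Test.inH (compP m24A m24B) && (compP (compP m24A m24B) (compP m24A m24B) == m24U)) && (m24Test.inH (compP m24B m24C) && (compP (compP m24B m24C) (compP m24B m24C) == m24W)) && (m24Test.inH (compP m24A m24W) && (compP (compP m24A m24W) (compP m24A m24W) == m24T)) && (wordOk m24Test.inH m24Gens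 (m24Words.getD 0 []) idP m24A) && (wordOk m24Test.inH m24Gens (m24Words.getD 1 []) idP m24B) && (wordOk m24Test.inH m24Gens (m24Words.getD 2 []) idP m24C) && (m24Base.all m24Test.inH)) = true := by decide +kernel

theorem m24_syl : ((m24Syl.gens.zip m24SylWords).all fun q =>
    wordOk m24Test.inH m24Base q.2 idP q.1) = true ∧ m24SylWords.length = m24Syl.gens.length := by
  decide +kernel

theorem m24_two {E : Type*} [Group E] [Finite E] (π : E →* M24)
    (hs : Function.Surjective π) (hc : π.ker ≤ Subgroup.center E) (hcard : Nat.card π.ker = 2)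
    (hd : π.ker ≤ commutator E) : False := by
  have h2 : ∀ v ∈ π.ker, v * v = 1 := fun v hv => by
    have := pow_card_eq_one' (x := (⟨v, hv⟩ : π.ker))
    rw [hcard, sq] at this
    simpa [Subtype.ext_iff] using this
  have h := m24_checks
  simp only [Bool.and_eq_true, beq_iff_eq] at h
  obtain ⟨⟨⟨⟨⟨⟨⟨⟨⟨⟨⟨⟨⟨⟨⟨⟨⟨⟨⟨⟨⟨⟨⟨⟨⟨⟨⟨⟨⟨⟨⟨⟨⟨⟨gA, gB⟩, gC⟩, gU⟩, gW⟩, gT⟩, gAC⟩, iAC⟩, gAU⟩, iAU⟩, gBU⟩, iBU⟩, gBW⟩, iBW⟩, gCW⟩, iCW⟩, gUW⟩, iUW⟩, gTA⟩, iTA⟩, gTB⟩, iTB⟩, gTC⟩, iTC⟩, gTU⟩, iTU⟩, gTW⟩, iTW⟩, ⟨jU, eU⟩⟩, ⟨jW, eW⟩⟩, ⟨jT, eT⟩⟩, wA⟩, wB⟩, wC⟩, hbase⟩ := h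
  have GA : Good π (el M24 m24A) := good_of_ok m24Test m24_tabOk π hs hc h2 gA
  have inA : m24Test.inH m24A = true := by
    simp only [goodOk, Bool.and_eq_true] at gA
    exact gA.1.1.1
  have GB : Good π (el M24 m24B) := good_of_ok m24Test m24_tabOk π hs hc h2 gB
  have inB : m24Test.inH m24B = true := by
    simp only [goodOk, Bool.and_eq_true] at gB
    exact gB.1.1.1
  have GC : Good π (el M24 m24C) := good_of_ok m24Test m24_tabOk π hs hc h2 gC
  have inC : m24Test.inH m24C = true := by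
    simp only [goodOk, Bool.and_eq_true] at gC
    exact gC.1.1.1
  have GU : Good π (el M24 m24U) := good_of_ok m24Test m24_tabOk π hs hc h2 gU
  have inU : m24Test.inH m24U = true := by
    simp only [goodOk, Bool.and_eq_true] at gU
    exact gU.1.1.1
  have GW : Good π (el M24 m24W) := good_of_ok m24Test m24_tabOk π hs hc h2 gW
  have inW : m24Test.inH m24W = true := by
    simp only [goodOk, Bool.and_eq_true] at gW
    exact gW.1.1.1
  have GT : Good π (el M24 m24T) := good_of_ok m24Test m24_tabOk π hs hc h2 gT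
  have inT : m24Test.inH m24T = true := by
    simp only [goodOk, Bool.and_eq_true] at gT
    exact gT.1.1.1
  obtain ⟨B, hB, hBsur, hnorm⟩ := exists_B m24Test m24_tabOk π hs hc h2 m24_pairOk m24_idP
  obtain ⟨a, hA⟩ := hs (el M24 m24A)
  obtain ⟨b, hB'⟩ := hs (el M24 m24B)
  obtain ⟨c, hC⟩ := hs (el M24 m24C)
  obtain ⟨u, duU⟩ : ∃ u, a * b * (a * b) = u := ⟨_, rfl⟩
  have hU : π u = el M24 m24U := by
    rw [← duU, map_mul, map_mul, hA, hB', m24Test.el_mul inA inB jU rfl]
    exact m24Test.el_mul jU jU inU eU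
  obtain ⟨w, duW⟩ : ∃ w, b * c * (b * c) = w := ⟨_, rfl⟩
  have hW : π w = el M24 m24W := by
    rw [← duW, map_mul, map_mul, hB', hC, m24Test.el_mul inB inC jW rfl]
    exact m24Test.el_mul jW jW inW eW
  obtain ⟨t, duT⟩ : ∃ t, a * w * (a * w) = t := ⟨_, rfl⟩
  have hT' : π t = el M24 m24T := by
    rw [← duT, map_mul, map_mul, hA, hW, m24Test.el_mul inA inW jT rfl]
    exact m24Test.el_mul jT jT inT eT
  have cAC : a * c = c * a := comm_of_good GA GC
    (by rw [m24Test.el_mul inA inC iAC rfl]; exact good_of_ok m24Test m24_tabOk π hs hc h2 gAC) hA hC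
  have cAU : a * u = u * a := comm_of_good GA GU
    (by rw [m24Test.el_mul inA inU iAU rfl]; exact good_of_ok m24Test m24_tabOk π hs hc h2 gAU) hA hU
  have cBU : b * u = u * b := comm_of_good GB GU
    (by rw [m24Test.el_mul inB inU iBU rfl]; exact good_of_ok m24Test m24_tabOk π hs hc h2 gBU) hB' hU
  have cBW : b * w = w * b := comm_of_good GB GW
    (by rw [m24Test.el_mul inB inW iBW rfl]; exact good_of_ok m24Test m24_tabOk π hs hc h2 gBW) hB' hW
  have cCW : c * w = w * c := comm_of_good GC GW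
    (by rw [m24Test.el_mul inC inW iCW rfl]; exact good_of_ok m24Test m24_tabOk π hs hc h2 gCW) hC hW
  have cUW : u * w = w * u := comm_of_good GU GW
    (by rw [m24Test.el_mul inU inW iUW rfl]; exact good_of_ok m24Test m24_tabOk π hs hc h2 gUW) hU hW
  have cTA : t * a = a * t := comm_of_good GT GA
    (by rw [m24Test.el_mul inT inA iTA rfl]; exact good_of_ok m24Test m24_tabOk π hs hc h2 gTA) hT' hA
  have cTB : t * b = b * t := comm_of_good GT GB
    (by rw [m24Test.el_mul inT inB iTB rfl]; exact good_of_ok m24Test m24_tabOk π hs hc h2 gTB) hT' hB'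
  have cTC : t * c = c * t := comm_of_good GT GC
    (by rw [m24Test.el_mul inT inC iTC rfl]; exact good_of_ok m24Test m24_tabOk π hs hc h2 gTC) hT' hC
  have cTU : t * u = u * t := comm_of_good GT GU
    (by rw [m24Test.el_mul inT inU iTU rfl]; exact good_of_ok m24Test m24_tabOk π hs hc h2 gTU) hT' hU
  have cTW : t * w = w * t := comm_of_good GT GW
    (by rw [m24Test.el_mul inT inW iTW rfl]; exact good_of_ok m24Test m24_tabOk π hs hc h2 gTW) hT' hW
  obtain ⟨T, hBT, haT, hbT, hcT, hT⟩ := bound_u4 B duU.symm duW.symm duT.symm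
    (hnorm _ _ wA a hA) (hnorm _ _ wB b hB') (hnorm _ _ wC c hC) (GA a hA) (GB b hB') (GC c hC)
    (GU u hU) (GW w hW) (GT t hT') cAC cAU cBU cBW cCW cUW cTA cTB cTC cTU cTW
  have hbaseM : ∀ g ∈ m24Base, el M24 g ∈ T.map π := by
    intro g hg
    simp only [m24Base, List.mem_append, List.mem_map, List.mem_range, List.mem_cons,
      List.not_mem_nil, or_false] at hg
    rcases hg with ⟨j, hj, rfl⟩ | rfl | rfl | rfl
    · have hj16 : 2 ^ j < 16 := by
        calc 2 ^ j < 2 ^ 4 := Nat.pow_lt_pow_right (by norm_num) hj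
          _ = 16 := by norm_num
      obtain ⟨y, hy, hyv⟩ := hBsur (2 ^ j) hj16
      exact ⟨y, hBT hy, hyv⟩
    · exact ⟨a, haT, hA⟩
    · exact ⟨b, hbT, hB'⟩
    · exact ⟨c, hcT, hC⟩
  have hle : m24Syl.grp ≤ (T.map π).map (Subgroup.subtype M24) := by
    rw [SylCert.grp, Subgroup.closure_le]
    rintro _ ⟨g, hg, rfl⟩
    obtain ⟨i, hi, rfl⟩ := List.mem_iff_getElem.1 hg
    obtain ⟨hw, hlen⟩ := m24_syl
    have hz : (m24Syl.gens[i], m24SylWords[i]'(by omega)) ∈ m24Syl.gens.zip m24SylWords := by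
      rw [List.mem_iff_getElem]
      exact ⟨i, by rw [List.length_zip]; omega, by rw [List.getElem_zip]⟩
    have h1 := word_mem m24Test hbase _ hbaseM _ idP _ m24_idP (List.all_eq_true.1 hw _ hz)
      (by rw [el_idP m24Test m24_idP]; exact one_mem _)
    refine ⟨_, h1, ?_⟩
    exact m24Test.el_val (((SylCert.gens_valid m24SylHyp.grp) hg).2)
  have h3 := Subgroup.card_le_of_le hle
  rw [SylCert.card_grp m24SylHyp.grp, m24SylHyp.len,
    ← Nat.card_congr ((T.map π).equivMapOfInjective _ (Subgroup.subtype_injective _)).toEquiv] at h3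
  have h4 : Nat.card (T.map π) ≤ Nat.card T :=
    Nat.card_le_card_of_surjective _ (π.subgroupMap_surjective T)
  have hk : m24SylHyp.k = 10 := rfl
  rw [hk] at h3
  norm_num at h3
  have h5 := Subgroup.card_mul_index (T.map π)
  rw [card_M24] at h5
  have h3' : 1024 ≤ Nat.card ↥(T.map π) := h3
  have h6 : Nat.card (T.map π) = 1024 := by omega
  rw [h6] at h5
  refine false_of_split π hs hc Nat.prime_two hcard hd T (by omega) ?_
  rw [show (T.map π).index = 239085 by omega]
  decide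

/-- Checks for the prime three. -/
theorem m24_three_in : ((m24Test.inH m24ThreeA) && (m24Test.inH m24ThreeB) && (m24Test.inH m24ThreeZ) && (m24Test.inH m24ThreeGA) && (m24Test.inH m24ThreeGB) && (m24Test.inH m24ThreeGZ) && (m24Test.inH (compP m24ThreeB m24ThreeA)) && (m24Test.inH (compP m24ThreeZ m24ThreeA))) = true := by decide +kernel

theorem m24_three_eqs :
    (isIdP (powP m24ThreeA 3) && isIdP (powP m24ThreeB 3) && isIdP (powP m24ThreeZ 3) &&
    (compP m24ThreeB m24ThreeA == compP (compP m24ThreeZ m24ThreeA) m24ThreeB) &&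
    (compP m24ThreeA m24ThreeZ == compP m24ThreeZ m24ThreeA) &&
    (compP m24ThreeB m24ThreeZ == compP m24ThreeZ m24ThreeB) &&
    (compP m24ThreeGA m24ThreeA == compP (powP m24ThreeA 2) m24ThreeGA) &&
    (compP m24ThreeGB m24ThreeB == compP (powP m24ThreeB 2) m24ThreeGB) &&
    (compP m24ThreeGZ m24ThreeZ == compP (powP m24ThreeZ 2) m24ThreeGZ) &&
    (compP m24ThreeGA m24ThreeZ == compP m24ThreeZ m24ThreeGA) &&
    (compP m24ThreeGB m24ThreeZ == compP m24ThreeZ m24ThreeGB) &&
    !(isIdP m24ThreeZ)) = true := by decide +kernel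

/-- Words for the 27 products. -/
def m24ThreeWords : List (List ℕ) :=
  (List.range 27).map fun n =>
    List.replicate (n / 9) 0 ++ List.replicate (n / 3 % 3) 1 ++ List.replicate (n % 3) 2

/-- The value of a word. -/
def wordVal (base : List ℕ) (w : List ℕ) : ℕ := w.foldl (fun acc i => compP acc (base.getD i 0)) idP

theorem m24_three_words :
    (([m24ThreeZ, m24ThreeA, m24ThreeB].all m24Test.inH) &&
    ((m24ThreeWords.map (wordVal [m24ThreeZ, m24ThreeA, m24ThreeB])).zip m24ThreeWords).all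
      (fun q => wordOk m24Test.inH [m24ThreeZ, m24ThreeA, m24ThreeB] q.2 idP q.1) &&
    (m24ThreeWords.map (wordVal [m24ThreeZ, m24ThreeA, m24ThreeB])).all
      (fun p => m24Test.inH p && (compP p idP == p))) = true ∧
    (m24ThreeWords.map (wordVal [m24ThreeZ, m24ThreeA, m24ThreeB])).Nodup ∧
    (m24ThreeWords.map (wordVal [m24ThreeZ, m24ThreeA, m24ThreeB])).length = 27 ∧
    m24ThreeWords.length = 27 := by
  decide +kernel

theorem m24_three {E : Type*} [Group E] [Finite E] (π : E →* M24)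
    (hs : Function.Surjective π) (hc : π.ker ≤ Subgroup.center E) (hcard : Nat.card π.ker = 3)
    (hd : π.ker ≤ commutator E) : False := by
  have hk : ∀ v ∈ π.ker, v ^ 3 = 1 := fun v hv => by
    have := pow_card_eq_one' (x := (⟨v, hv⟩ : π.ker))
    rw [hcard] at this
    simpa [Subtype.ext_iff] using this
  have hin := m24_three_in
  have heq := m24_three_eqs
  simp only [Bool.and_eq_true, beq_iff_eq, Bool.not_eq_true'] at hin heq
  obtain ⟨⟨⟨⟨⟨⟨⟨iA, iB⟩, iZ⟩, iGA⟩, iGB⟩, iGZ⟩, iBA⟩, iZA⟩ := hin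
  obtain ⟨⟨⟨⟨⟨⟨⟨⟨⟨⟨⟨pA, pB⟩, pZ⟩, eBA⟩, eAZ⟩, eBZ⟩, eGA⟩, eGB⟩, eGZ⟩, eGAZ⟩, eGBZ⟩, -⟩ := heq
  have cA := el_inv_of_cube m24Test iA pA
  have cB := el_inv_of_cube m24Test iB pB
  have cZ := el_inv_of_cube m24Test iZ pZ
  have hba : el M24 m24ThreeB * el M24 m24ThreeA =
      el M24 m24ThreeZ * el M24 m24ThreeA * el M24 m24ThreeB := by
    rw [m24Test.el_mul iZ iA iZA rfl]
    exact m24Test.el_mul_eq iB iA iZA iB eBA
  have hAZ := m24Test.el_mul_eq iA iZ iZ iA eAZ
  have hBZ := m24Test.el_mul_eq iB iZ iZ iB eBZ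
  have hGAZ := m24Test.el_mul_eq iGA iZ iZ iGA eGAZ
  have hGBZ := m24Test.el_mul_eq iGB iZ iZ iGB eGBZ
  have hGA := el_conj_sq m24Test iA iGA eGA
  have hGB := el_conj_sq m24Test iB iGB eGB
  have hGZ := el_conj_sq m24Test iZ iGZ eGZ
  have inv2 : ∀ x : M24, x ^ 3 = 1 → x ^ 2 = x⁻¹ := fun x hx =>
    (inv_eq_of_mul_eq_one_left (by rw [← pow_succ, hx])).symm
  obtain ⟨a, ha⟩ := hs (el M24 m24ThreeA)
  obtain ⟨b, hb⟩ := hs (el M24 m24ThreeB)
  obtain ⟨z, hz⟩ : ∃ z, b * a * b⁻¹ * a⁻¹ = z := ⟨_, rfl⟩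
  have hz' : π z = el M24 m24ThreeZ := by
    rw [← hz, map_mul, map_mul, map_mul, map_inv, map_inv, ha, hb, hba]
    group
  have hp : (3 : ℕ).Prime := Nat.prime_three
  have a3 := pow_lift_eq_one π hs hc hp hk cA (r := 2) (by norm_num) (by norm_num) hGA ha
  have b3 := pow_lift_eq_one π hs hc hp hk cB (r := 2) (by norm_num) (by norm_num) hGB hb
  have z3 := pow_lift_eq_one π hs hc hp hk cZ (r := 2) (by norm_num) (by norm_num) hGZ hz'
  have az : a * z = z * a := lift_comm_of_inverted π hs hc hp (by norm_num) hk hAZ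
    (by rw [hGA, inv2 _ cA]) hGAZ ha hz'
  have bz : b * z = z * b := lift_comm_of_inverted π hs hc hp (by norm_num) hk hBZ
    (by rw [hGB, inv2 _ cB]) hGBZ hb hz'
  have b1 : Nat.card (Subgroup.closure ({z} : Set E)) ≤ 3 := by
    rw [← Subgroup.zpowers_eq_closure, Nat.card_zpowers]
    exact Nat.le_of_dvd (by norm_num) (orderOf_dvd_of_pow_eq_one z3)
  have b2 : Nat.card (Subgroup.closure (insert a ({z} : Set E))) ≤
      Nat.card (Subgroup.closure ({z} : Set E)) * 3 :=
    card_closure_insert_pow_le _ a (by norm_num) a3 fun s hs => by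
      rw [Set.mem_singleton_iff] at hs
      subst hs
      rw [az, mul_inv_cancel_right]
      exact Subgroup.subset_closure rfl
  have b3' : Nat.card (Subgroup.closure (insert b (insert a ({z} : Set E)))) ≤
      Nat.card (Subgroup.closure (insert a ({z} : Set E))) * 3 :=
    card_closure_insert_pow_le _ b (by norm_num) b3 fun s hs => by
      rcases hs with rfl | hs
      · have : b * s * b⁻¹ = z * s := by rw [← hz]; group
        rw [this]
        exact mul_mem (Subgroup.subset_closure (Or.inr rfl)) (Subgroup.subset_closure (Or.inl rfl))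
      · rw [Set.mem_singleton_iff] at hs
        subst hs
        rw [bz, mul_inv_cancel_right]
        exact Subgroup.subset_closure (Or.inr rfl)
  obtain ⟨T, hT⟩ : ∃ T, Subgroup.closure (insert b (insert a ({z} : Set E))) = T := ⟨_, rfl⟩
  rw [hT] at b3'
  obtain ⟨hw, hnd, hlen, hwl⟩ := m24_three_words
  rw [Bool.and_eq_true, Bool.and_eq_true] at hw
  have hge := card_ge_of_words m24Test hw.1.1 m24_idP (T.map π) (by
    intro g hg
    simp only [List.mem_cons, List.not_mem_nil, or_false] at hg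
    rw [← hT]
    rcases hg with rfl | rfl | rfl
    · exact ⟨z, Subgroup.subset_closure (Or.inr (Or.inr rfl)), hz'⟩
    · exact ⟨a, Subgroup.subset_closure (Or.inr (Or.inl rfl)), ha⟩
    · exact ⟨b, Subgroup.subset_closure (Or.inl rfl), hb⟩) m24ThreeWords _ (by rw [hlen, hwl])
    hw.1.2 hw.2 hnd
  rw [hlen] at hge
  have hle : Nat.card (T.map π) ≤ Nat.card T :=
    Nat.card_le_card_of_surjective _ (π.subgroupMap_surjective T)
  have hge' : 27 ≤ Nat.card ↥(T.map π) := hge
  have h6 : Nat.card (T.map π) = 27 := by omega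
  have h5 := Subgroup.card_mul_index (T.map π)
  rw [card_M24, h6] at h5
  refine false_of_split π hs hc hp hcard hd T (by omega) ?_
  rw [show (T.map π).index = 9067520 by omega]
  norm_num

theorem m24_odd : ((m24Test.inH (m24Odd.getD 0 (0, 0, 0, 0)).2.2.1) &&
    primeOk m24Test.inH 5 2 (m24Odd.getD 0 (0, 0, 0, 0)).2.2.1 (m24Odd.getD 0 (0, 0, 0, 0)).2.2.2 &&
    primeOk m24Test.inH 7 2 (m24Odd.getD 1 (0, 0, 0, 0)).2.2.1 (m24Odd.getD 1 (0, 0, 0, 0)).2.2.2 &&
    primeOk m24Test.inH 11 2 (m24Odd.getD 2 (0, 0, 0, 0)).2.2.1 (m24Odd.getD 2 (0, 0, 0, 0)).2.2.2 &&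
    primeOk m24Test.inH 23 2 (m24Odd.getD 3 (0, 0, 0, 0)).2.2.1 (m24Odd.getD 3 (0, 0, 0, 0)).2.2.2)
      = true := by decide +kernel

theorem m24_noExt (p : ℕ) (hp : p.Prime) : NoExt ↥M24 p := by
  intro E _ _ π hs hc hcard hd
  have h := m24_odd
  simp only [Bool.and_eq_true] at h
  by_cases h2 : p = 2
  · subst h2; exact m24_two π hs hc hcard hd
  by_cases h3 : p = 3
  · subst h3; exact m24_three π hs hc hcard hd
  by_cases h5 : p = 5
  · subst h5
    exact false_of_prime m24Test π hs hc hp hcard hd (r := 2) (by norm_num) h.1.1.1.2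
      (m := 48964608) (by rw [card_M24]) (by norm_num)
  by_cases h7 : p = 7
  · subst h7
    exact false_of_prime m24Test π hs hc hp hcard hd (r := 2) (by norm_num) h.1.1.2
      (m := 34974720) (by rw [card_M24]) (by norm_num)
  by_cases h11 : p = 11
  · subst h11
    exact false_of_prime m24Test π hs hc hp hcard hd (r := 2) (by norm_num) h.1.2
      (m := 22256640) (by rw [card_M24]) (by norm_num)
  by_cases h23 : p = 23
  · subst h23
    exact false_of_prime m24Test π hs hc hp hcard hd (r := 2) (by norm_num) h.2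
      (m := 10644480) (by rw [card_M24]) (by norm_num)
  refine false_of_not_dvd π hs hc hp hcard hd ?_
  rw [card_M24, show (244823040 : ℕ) = 2 ^ 10 * (3 ^ 3 * (5 * (7 * (11 * 23)))) by norm_num]
  intro hdiv
  have e2 : ∀ q, q.Prime → p ∣ q → p = q := fun q hq hh => (Nat.prime_dvd_prime_iff_eq hp hq).1 hh
  rcases hp.dvd_mul.1 hdiv with h' | h'
  · exact h2 (e2 2 Nat.prime_two (hp.dvd_of_dvd_pow h'))
  rcases hp.dvd_mul.1 h' with h' | h'
  · exact h3 (e2 3 Nat.prime_three (hp.dvd_of_dvd_pow h'))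
  rcases hp.dvd_mul.1 h' with h' | h'
  · exact h5 (e2 5 (by norm_num) h')
  rcases hp.dvd_mul.1 h' with h' | h'
  · exact h7 (e2 7 (by norm_num) h')
  rcases hp.dvd_mul.1 h' with h' | h'
  · exact h11 (e2 11 (by norm_num) h')
  · exact h23 (e2 23 (by norm_num) h')

end

end Cfsg.Agent.SchurSplit
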