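import Cfsg.Agent.Lib.SchurSplit.SmallMain

set_option autoImplicit false

/-!
No stem extension of `M₁₁`.
-/

namespace Cfsg.Agent.SchurSplit

open Cfsg.Agent.Golay24
open scoped Pointwise

theorem m11_rel :
    (m11SylHyp.inH 817063818435691619682541939146163456 &&
     m11SylHyp.inH 610933098178650810155900481226967136 &&
     m11SylHyp.inH 487607080158395075740321133224921120 &&
     m11SylHyp.inH 487655643029606470073469406179395616 &&
     m11SylHyp.inH 233233386906768391987032901617288256 &&
     (compP (powP 817063818435691619682541939146163456 8) idP == idP) &&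
     !(isIdP (powP 817063818435691619682541939146163456 4)) &&
     (compP 610933098178650810155900481226967136 610933098178650810155900481226967136 == idP) &&
     (compP 610933098178650810155900481226967136 817063818435691619682541939146163456 ==
       compP (powP 817063818435691619682541939146163456 3) 610933098178650810155900481226967136) &&
     (compP (powP 487607080158395075740321133224921120 3) idP == idP) &&
     (compP (powP 487655643029606470073469406179395616 3) idP == idP) &&
     !(isIdP 487607080158395075740321133224921120) &&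
     !(isIdP 487655643029606470073469406179395616) &&
     (compP 487607080158395075740321133224921120 487655643029606470073469406179395616 ==
       compP 487655643029606470073469406179395616 487607080158395075740321133224921120) &&
     (compP 233233386906768391987032901617288256 487607080158395075740321133224921120 ==
       compP 487607080158395075740321133224921120 233233386906768391987032901617288256) &&
     (compP 233233386906768391987032901617288256 487655643029606470073469406179395616 ==
       compP (powP 487655643029606470073469406179395616 2) 233233386906768391987032901617288256))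
      = true := by
  decide +kernel

theorem m11_valid {g : ℕ} (h : m11SylHyp.inH g = true) : validP g = true :=
  valid_of_inM24 (by
    simp only [m11SylHyp, Bool.and_eq_true] at h
    exact h.1.1)

/-- The element with the given code. -/
noncomputable def m11El (g : ℕ) (h : m11SylHyp.inH g = true) : ↥Spor.M11 :=
  ⟨toPerm g, m11SylHyp.mem g h⟩

theorem toPerm_compP_idP {p : ℕ} (hp : validP p = true) : toPerm (compP p idP) = toPerm p := by
  rw [toPerm_compP hp idP_spec.1, toPerm_idP, mul_one]

theorem m11_noExt : ∀ p, p.Prime → NoExt ↥Spor.M11 p := by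
  intro p hp
  by_cases h2 : p ^ 2 ∣ Nat.card ↥Spor.M11
  swap
  · exact noExt_of_sq_not_dvd hp h2
  have hp23 : p = 2 ∨ p = 3 := by
    rw [card_M11] at h2
    have hle : p < 90 := (Nat.pow_lt_pow_iff_left two_ne_zero).1
      (lt_of_le_of_lt (Nat.le_of_dvd (by norm_num) h2) (by norm_num : 7920 < 90 ^ 2))
    have hall : ∀ q : Fin 90, 2 ≤ (q : ℕ) → (q : ℕ) ^ 2 ∣ 7920 → (q : ℕ).Prime →
        (q : ℕ) = 2 ∨ (q : ℕ) = 3 := by
      intro q h1 h2 h3
      have : (q : ℕ) ≠ 4 ∧ (q : ℕ) ≠ 6 ∧ (q : ℕ) ≠ 12 := by
        refine ⟨?_, ?_, ?_⟩ <;> intro e <;> rw [e] at h3 <;> norm_num at h3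
      revert this h2 h1
      clear h3
      revert q
      decide +kernel
    exact hall ⟨p, hle⟩ hp.two_le h2 hp
  have h := m11_rel
  simp only [Bool.and_eq_true, beq_iff_eq, Bool.not_eq_true', beq_eq_false_iff_ne] at h
  obtain ⟨⟨⟨⟨⟨⟨⟨⟨⟨⟨⟨⟨⟨⟨⟨ia, ih⟩, ia3⟩, ib3⟩, ig⟩, a8⟩, a4⟩, h2'⟩, hconj⟩, a33⟩, b33⟩, a31⟩, b31⟩, hab⟩,
    hga⟩, hgb⟩ := h
  have hpow : ∀ {g : ℕ} (hg : m11SylHyp.inH g = true) (n : ℕ),
      toPerm (compP (powP g (n + 1)) idP) = toPerm g ^ (n + 1) := fun {g} hg n => by
    obtain ⟨h1, h2⟩ := toPerm_powP (m11_valid hg) n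
    rw [toPerm_compP_idP h1, h2]
  have hne1 : ∀ {g : ℕ}, validP g = true → isIdP g = false → toPerm g ≠ 1 := by
    intro g hg hne e
    have : isIdP g = true := by
      simp only [isIdP, List.all_eq_true, List.mem_range, beq_iff_eq]
      intro i hi
      have h1 := idx_toPerm hg (pt ⟨i, hi⟩)
      rw [e, idx_pt, Equiv.Perm.one_apply, idx_pt] at h1
      exact h1.symm
    rw [this] at hne
    exact absurd hne (by simp)
  rcases hp23 with rfl | rfl
  · set a := m11El _ ia
    set t := m11El _ ih
    have hord : orderOf a = 8 := by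
      refine orderOf_eq_prime_pow (p := 2) (n := 2) (fun e => ?_) (Subtype.ext ?_)
      · exact hne1 (toPerm_powP (m11_valid ia) 3).1 a4
          ((toPerm_powP (m11_valid ia) 3).2.trans (congrArg Subtype.val e))
      · show toPerm _ ^ 8 = 1
        rw [← hpow ia 7, a8, toPerm_idP]
    have htt : t * t = 1 := Subtype.ext (by
      show toPerm _ * toPerm _ = 1
      rw [← toPerm_compP (m11_valid ih) (m11_valid ih), h2', toPerm_idP])
    have hc : t * a * t⁻¹ = a ^ 3 := by
      rw [mul_inv_eq_iff_eq_mul]
      apply Subtype.ext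
      show toPerm _ * toPerm _ = toPerm _ ^ 3 * toPerm _
      rw [← (toPerm_powP (m11_valid ia) 2).2]
      exact mul_eq_of_compP (m11_valid ih) (m11_valid ia) (toPerm_powP (m11_valid ia) 2).1
        (m11_valid ih) hconj
    refine noExt_sylow hp (m11SylHyp.sylow : Subgroup ↥Spor.M11) m11SylHyp.sylow.not_dvd_index
      fun E _ _ π hπ hck hcard => comap_of_semidihedral π hπ hck hcard _ a t hord htt hc ?_
    intro x hx
    have hx' : (x : Equiv.Perm GolayPt) ∈ m11Syl.grp := hx
    have hle : m11Syl.grp ≤ (Subgroup.closure ({a, t} : Set ↥Spor.M11)).map Spor.M11.subtype := by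
      rw [SylCert.grp, Subgroup.closure_le]
      rintro _ ⟨g, hg, rfl⟩
      simp only [m11Syl, List.mem_cons, List.not_mem_nil, or_false] at hg
      rcases hg with rfl | rfl
      · exact ⟨a, Subgroup.subset_closure (Or.inl rfl), rfl⟩
      · exact ⟨t, Subgroup.subset_closure (Or.inr rfl), rfl⟩
    obtain ⟨y, hy, hyx⟩ := hle hx'
    rwa [Subtype.ext hyx] at hy
  · set a := m11El _ ia3
    set b := m11El _ ib3
    set g := m11El _ ig
    have ha3 : a ^ 3 = 1 := Subtype.ext (by
      show toPerm _ ^ 3 = 1
      rw [← hpow ia3 2, a33, toPerm_idP])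
    have hb3 : b ^ 3 = 1 := Subtype.ext (by
      show toPerm _ ^ 3 = 1
      rw [← hpow ib3 2, b33, toPerm_idP])
    have hab' : a * b = b * a :=
      Subtype.ext (mul_eq_of_compP (m11_valid ia3) (m11_valid ib3) (m11_valid ib3) (m11_valid ia3) hab)
    have hga' : g * a * g⁻¹ = a := by
      rw [mul_inv_eq_iff_eq_mul]
      exact Subtype.ext (mul_eq_of_compP (m11_valid ig) (m11_valid ia3) (m11_valid ia3) (m11_valid ig) hga)
    have hgb' : g * b * g⁻¹ = b⁻¹ := by
      have hb2 : b⁻¹ = b ^ 2 := inv_eq_of_mul_eq_one_right (by rw [← pow_succ', hb3])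
      rw [hb2, mul_inv_eq_iff_eq_mul]
      apply Subtype.ext
      show toPerm _ * toPerm _ = toPerm _ ^ 2 * toPerm _
      rw [← (toPerm_powP (m11_valid ib3) 1).2]
      exact mul_eq_of_compP (m11_valid ig) (m11_valid ib3) (toPerm_powP (m11_valid ib3) 1).1
        (m11_valid ig) hgb
    haveI : Fact (Nat.Prime 3) := ⟨Nat.prime_three⟩
    refine noExt_sylow hp (Subgroup.closure {a, b}) ?_ fun E _ _ π hπ hck hcard =>
      comap_of_reflection π hπ hck hcard _ a b g hab' hga' hgb' le_rfl
    refine not_dvd_index hp _ (k := 2) (m := 880) (by rw [card_M11]; norm_num) (by norm_num) ?_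
    have hbz : b ∉ Subgroup.zpowers a := by
      intro hb
      have hcon : g * b * g⁻¹ = b := by
        obtain ⟨k, hk⟩ := Subgroup.mem_zpowers_iff.1 hb
        rw [← hk, ← conj_zpow, hga']
      rw [hgb'] at hcon
      have hb1 : b = 1 := by
        have h2 : b ^ 2 = 1 := by
          rw [pow_two]; nth_rw 2 [← hcon]; rw [mul_inv_cancel]
        rw [← hb3, pow_succ, h2, one_mul]
      exact hne1 (m11_valid ib3) b31 (congrArg Subtype.val hb1)
    have hoa : orderOf a = 3 :=
      orderOf_eq_prime ha3 fun e => hne1 (m11_valid ia3) a31 (congrArg Subtype.val e)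
    set T := Subgroup.closure ({a, b} : Set ↥Spor.M11)
    have hexp : ∀ x ∈ T, x ^ 3 = 1 := by
      have hc2 : ∀ x ∈ ({a, b} : Set ↥Spor.M11), ∀ y ∈ ({a, b} : Set ↥Spor.M11), x * y = y * x := by
        rintro x (rfl | rfl) y (rfl | rfl) <;> first | rfl | exact hab' | exact hab'.symm
      letI := Subgroup.closureCommGroupOfComm hc2
      intro x hx
      induction hx using Subgroup.closure_induction with
      | mem s hs =>
        rcases hs with rfl | rfl
        · exact ha3
        · exact hb3
      | one => exact one_pow 3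
      | mul x y hx hy ihx ihy =>
        have hxy : Commute x y := congrArg Subtype.val (mul_comm (⟨x, hx⟩ : T) ⟨y, hy⟩)
        rw [hxy.mul_pow, ihx, ihy, one_mul]
      | inv x hx ih => rw [inv_pow, ih, inv_one]
    obtain ⟨k, hk⟩ := (IsPGroup.iff_card (p := 3) (G := T)).1 fun x =>
      ⟨1, Subtype.ext (by rw [pow_one]; exact hexp x x.2)⟩
    have hlt : 3 < Nat.card T := by
      have hle : Subgroup.zpowers a ≤ T := Subgroup.zpowers_le.2 (Subgroup.subset_closure (Or.inl rfl))
      have h3 := Nat.card_zpowers a
      rw [hoa] at h3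
      rw [← h3]
      refine lt_of_le_of_ne (Subgroup.card_le_of_le hle) fun e => hbz ?_
      rw [Subgroup.eq_of_le_of_card_ge hle e.ge]
      exact Subgroup.subset_closure (Or.inr rfl)
    rw [hk] at hlt ⊢
    refine Nat.pow_dvd_pow 3 ?_
    by_contra hk2
    have := Nat.pow_le_pow_right (show 0 < 3 by norm_num) (show k ≤ 1 by omega)
    omega

end Cfsg.Agent.SchurSplit
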