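import Cfsg.Agent.Lib.SchurSplit.Sylow
import Cfsg.Agent.Lib.SL2.SylowTwo
import Cfsg.Agent.Lib.SL2.DicksonBig
import Cfsg.Agent.Lib.SL2.McKay

/-!
No stem extension of `SL(2, q)` has kernel of prime order, for `q ≠ 4, 9`.
-/

set_option autoImplicit false
set_option linter.unusedSectionVars false

namespace Cfsg.Agent.SchurSplit

open SL2 Matrix

universe u

variable {F : Type u} [Field F] [Fintype F]

local notation "G" => Matrix.SpecialLinearGroup (Fin 2) F
local notation "q" => Fintype.card F

/-- Unipotent-up-to-sign elements have order dividing twice the characteristic. -/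
theorem pow_two_char (r : ℕ) [Fact r.Prime] [CharP F r] {c : G} (ht : tr c ^ 2 = 4) :
    c ^ (2 * r) = 1 := by
  have h : tr (c * c) = 2 := by
    have e : (((c * c : G)) : Matrix (Fin 2) (Fin 2) F) = tr c • (c : Matrix (Fin 2) (Fin 2) F) - 1 := by
      rw [Matrix.SpecialLinearGroup.coe_mul, mul_self]
    rw [← trace_eq, e, Matrix.trace_sub, Matrix.trace_smul, trace_eq, Matrix.trace_one]
    simp only [smul_eq_mul, Fintype.card_fin, Nat.cast_ofNat]
    linear_combination ht
  rw [pow_mul, pow_two]
  apply Subtype.ext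
  set N : Matrix (Fin 2) (Fin 2) F := ((c * c : G) : Matrix (Fin 2) (Fin 2) F) - 1 with hN
  have hN2 : N ^ 2 = 0 := by
    rw [hN, pow_two, sub_mul, mul_sub, one_mul, mul_one, mul_self, h, two_smul]
    abel
  have hM : ((c * c : G) : Matrix (Fin 2) (Fin 2) F) = N + 1 := by rw [hN, sub_add_cancel]
  rw [Matrix.SpecialLinearGroup.coe_pow, hM, Matrix.SpecialLinearGroup.coe_one,
    add_pow_char_of_commute r (Commute.one_right N), one_pow, pow_eq_zero_of_le
      (Nat.Prime.two_le Fact.out) hN2, zero_add]

/-- An odd Sylow subgroup for a prime other than the characteristic is cyclic. -/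
theorem isCyclic_sylow_odd (r : ℕ) [Fact r.Prime] [CharP F r] {p : ℕ} [hp : Fact p.Prime]
    (h2 : p ≠ 2) (hr : p ≠ r) (S : Sylow p G) : IsCyclic (S : Subgroup G) := by
  rcases subsingleton_or_nontrivial (S : Subgroup G) with hS | hS
  · exact isCyclic_of_subsingleton
  haveI := hS
  haveI := S.isPGroup'.center_nontrivial
  obtain ⟨z, hz⟩ : ∃ z : Subgroup.center (S : Subgroup G), z ≠ 1 := exists_ne 1
  set c : G := ((z : (S : Subgroup G)) : G) with hc
  have hc1 : c ≠ 1 := fun h => hz (Subtype.ext (Subtype.ext h))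
  obtain ⟨k, hk⟩ := S.isPGroup' (z : (S : Subgroup G))
  have hk' : c ^ p ^ k = 1 := by simpa [c] using congrArg Subtype.val hk
  have hne : ∀ n, Nat.Coprime n p → c ^ n ≠ 1 := by
    intro n hn he
    have := pow_gcd_eq_one (a := c) |>.mpr ⟨he, hk'⟩
    rw [Nat.Coprime.gcd_eq_one (hn.pow_right k), pow_one] at this
    exact hc1 this
  have htr : tr c ^ 2 ≠ 4 := fun ht => hne _ (Nat.Coprime.mul
    ((Nat.coprime_primes Nat.prime_two hp.out).2 (Ne.symm h2))
    ((Nat.coprime_primes Fact.out hp.out).2 (Ne.symm hr))) (pow_two_char r ht)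
  have hle : (S : Subgroup G) ≤ cent c := fun x hx => mem_cent.2 (by
    have := congrArg Subtype.val (Subgroup.mem_center_iff.1 z.2 ⟨x, hx⟩)
    simpa [c] using this.symm)
  haveI := isCyclic_cent htr
  exact isCyclic_of_injective (Subgroup.inclusion hle) (Subgroup.inclusion_injective hle)

/-- Squares in consecutive position, not cube roots of unity. -/
theorem exists_consecutive_squares (r : ℕ) [Fact r.Prime] [CharP F r]
    (h4 : q ≠ 4) (h9 : q ≠ 9) (hnp : q ≠ r) :
    ∃ s t : Fˣ, (1 : F) + (s : F) ^ 2 = (t : F) ^ 2 ∧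
      ((s : F) ^ 2) ^ 2 + (s : F) ^ 2 + 1 ≠ 0 := by
  classical
  have hr : r.Prime := Fact.out
  obtain ⟨n, -, hn⟩ := FiniteField.card F r
  have hn2 : 2 ≤ (n : ℕ) := by
    rcases Nat.lt_or_ge (n : ℕ) 2 with h | h
    · exact absurd (hn.trans (by rw [le_antisymm (Nat.le_of_lt_succ h) n.2, pow_one])) hnp
    · exact h
  by_cases h2 : r = 2
  · subst h2
    have hq : 8 ≤ q := by
      rw [hn] at h4 ⊢
      have : (3 : ℕ) ≤ n := by
        by_contra h
        exact h4 (by rw [show (n : ℕ) = 2 by omega]; rfl)
      calc 8 = 2 ^ 3 := rfl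
        _ ≤ 2 ^ (n : ℕ) := Nat.pow_le_pow_right two_pos this
    let P : Polynomial F := (Polynomial.X ^ 2 + Polynomial.X) *
      (Polynomial.X ^ 4 + Polynomial.X ^ 2 + 1)
    have hP0 : P ≠ 0 := by
      refine mul_ne_zero ?_ ?_ <;> intro h
      · simpa [Polynomial.coeff_X] using congrArg (Polynomial.coeff · 2) h
      · simpa [Polynomial.coeff_X_pow, Polynomial.coeff_one] using congrArg (Polynomial.coeff · 0) h
    have hdeg : P.natDegree < q := by
      refine lt_of_le_of_lt (b := 6) ?_ (by omega)
      simp only [P]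
      compute_degree
    obtain ⟨x, hx⟩ := Polynomial.exists_eval_ne_zero_of_natDegree_lt_card P hP0
      (by simpa using hdeg)
    simp only [P, Polynomial.eval_mul, Polynomial.eval_add, Polynomial.eval_pow, Polynomial.eval_X,
      Polynomial.eval_one, mul_ne_zero_iff] at hx
    have hx1 : x ^ 2 + x = x * (1 + x) := by ring
    rw [hx1, mul_ne_zero_iff] at hx
    have htwo : (2 : F) = 0 := by exact_mod_cast CharP.cast_eq_zero F 2
    exact ⟨Units.mk0 x hx.1.1, Units.mk0 (1 + x) hx.1.2, by
      simp only [Units.val_mk0]; linear_combination (-x) * htwo, by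
      simp only [Units.val_mk0]; rw [← pow_mul]; exact hx.2⟩
  · have hq : 17 ≤ q := by
      rw [hn] at h9 ⊢
      have hr3 : 3 ≤ r := by have := hr.two_le; omega
      rcases Nat.lt_or_ge r 5 with h5 | h5
      · have hr' : r = 3 := by
          rcases Nat.lt_or_ge r 4 with h | h
          · omega
          · exact absurd hr (by rw [show r = 4 by omega]; norm_num)
        subst hr'
        have : (3 : ℕ) ≤ n := by
          by_contra h
          exact h9 (by rw [show (n : ℕ) = 2 by omega]; rfl)
        calc 17 ≤ 3 ^ 3 := by norm_num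
          _ ≤ 3 ^ (n : ℕ) := Nat.pow_le_pow_right (by norm_num) this
      · calc 17 ≤ 5 ^ 2 := by norm_num
          _ ≤ r ^ 2 := Nat.pow_le_pow_left h5 2
          _ ≤ r ^ (n : ℕ) := Nat.pow_le_pow_right (by omega) hn2
    have htwo : (2 : F) ≠ 0 := fun h => h2 (by
      have := (CharP.cast_eq_zero_iff F r 2).1 (by exact_mod_cast h)
      exact (Nat.prime_dvd_prime_iff_eq hr Nat.prime_two).1 this)
    let P : Polynomial F := (Polynomial.X ^ 5 - Polynomial.X) *
      ((Polynomial.X ^ 2 - 1) ^ 4 + (Polynomial.X ^ 2 - 1) ^ 2 * (4 * Polynomial.X ^ 2) +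
        16 * Polynomial.X ^ 4)
    have hP0 : P ≠ 0 := mul_ne_zero
      (fun h => by simpa [Polynomial.coeff_X] using congrArg (fun f => Polynomial.coeff f 5) h)
      (fun h => by simpa using congrArg (fun f => Polynomial.eval 0 f) h)
    have hdeg : P.natDegree < q := by
      refine lt_of_le_of_lt (b := 13) ?_ (by omega)
      simp only [P]
      compute_degree
    obtain ⟨x, hx⟩ := Polynomial.exists_eval_ne_zero_of_natDegree_lt_card P hP0
      (by simpa using hdeg)
    simp only [P, Polynomial.eval_mul, Polynomial.eval_add, Polynomial.eval_sub, Polynomial.eval_pow,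
      Polynomial.eval_X, Polynomial.eval_one, Polynomial.eval_ofNat, mul_ne_zero_iff] at hx
    rw [show x ^ 5 - x = x * ((x ^ 2 - 1) * (x ^ 2 + 1)) by ring, mul_ne_zero_iff,
      mul_ne_zero_iff] at hx
    obtain ⟨⟨hx0, hxm, hxp⟩, hpol⟩ := hx
    have hd : 2 * x ≠ 0 := mul_ne_zero htwo hx0
    refine ⟨Units.mk0 ((x ^ 2 - 1) / (2 * x)) (div_ne_zero hxm hd),
      Units.mk0 ((x ^ 2 + 1) / (2 * x)) (div_ne_zero hxp hd), ?_, ?_⟩
    · simp only [Units.val_mk0]
      field_simp
      ring
    · simp only [Units.val_mk0]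
      intro h
      apply hpol
      field_simp at h
      linear_combination h

theorem noExt_sl2 (h4 : q ≠ 4) (h9 : q ≠ 9) : ∀ p, p.Prime → NoExt G p := by
  intro p hp E _ _ π hπ hc hcard hd
  haveI := Fact.mk hp
  set r := ringChar F
  haveI : Fact r.Prime := ⟨CharP.char_is_prime F r⟩
  obtain ⟨S⟩ : Nonempty (Sylow p G) := inferInstance
  refine false_of_derived π hπ hc hp hcard hd (S : Subgroup G)
    ((hp.coprime_iff_not_dvd).2 S.not_dvd_index) ?_
  obtain ⟨n, hrp, hq⟩ := FiniteField.card F r
  by_cases hpr : p = r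
  · -- the characteristic
    obtain ⟨R, hR⟩ : ∃ R : Sylow p G, (R : Subgroup G) = (uuHom : Multiplicative F →* G).range := by
      refine ⟨Sylow.ofCard (uuHom : Multiplicative F →* G).range ?_, rfl⟩
      rw [card_uuHom_range, card_G, hpr]
      have hco : ¬ r ∣ (q - 1) * (q + 1) := by
        intro h
        have hrq : r ∣ q := by rw [hq]; exact dvd_pow_self r n.pos.ne'
        rcases hrp.dvd_mul.1 h with h | h
        · have h' := Nat.dvd_sub hrq h
          rw [show q - (q - 1) = 1 by have := two_le_q (F := F); omega] at h'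
          exact hrp.one_lt.ne' (Nat.dvd_one.1 h')
        · have h' := (Nat.dvd_add_right hrq).1 h
          exact hrp.one_lt.ne' (Nat.dvd_one.1 h')
      have h0 : (q - 1) * (q + 1) ≠ 0 := fun h => hco (h ▸ dvd_zero r)
      rw [Nat.factorization_mul Fintype.card_ne_zero h0, Finsupp.add_apply,
        Nat.factorization_eq_zero_of_not_dvd hco, add_zero, hq, hrp.factorization_pow,
        Finsupp.single_eq_same]
    obtain ⟨g, rfl⟩ := MulAction.exists_smul_eq G R S
    obtain ⟨G', hG'⟩ := hπ g
    have key : ⁅(R : Subgroup G).comap π, (R : Subgroup G).comap π⁆ ⊓ π.ker = ⊥ := by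
      by_cases hnp : q = r
      · haveI : IsCyclic (R : Subgroup G) := isCyclic_of_prime_card (p := r)
          (by rw [hR, card_uuHom_range, hnp])
        exact comap_of_cyclic π hπ hc _
      · obtain ⟨s, t, hst, hne⟩ := exists_consecutive_squares r h4 h9 hnp
        refine comap_of_torus π hπ hc _ (fun x : F => (uu x : G)) (fun a b => (uu_mul a b).symm)
          (fun x hx => ?_) ((s : F) ^ 2) (pow_ne_zero 2 s.ne_zero) hne
          ⟨dd s, fun x => dd_conj_uu s x⟩ ⟨dd t, fun x => by rw [hst]; exact dd_conj_uu t x⟩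
        rw [hR] at hx
        obtain ⟨x', rfl⟩ := hx
        exact ⟨Multiplicative.toAdd x', rfl⟩
    -- transport along conjugation
    have hmap : ((g • R : Sylow p G) : Subgroup G).comap π =
        ((R : Subgroup G).comap π).map (MulAut.conj G').toMonoidHom := by
      ext x
      rw [Subgroup.mem_map_equiv, Subgroup.mem_comap, Subgroup.mem_comap, Sylow.coe_subgroup_smul,
        Subgroup.mem_pointwise_smul_iff_inv_smul_mem]
      simp [MulAut.smul_def, hG']
    rw [hmap, eq_bot_iff, ← Subgroup.map_commutator]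
    rintro x ⟨⟨w, hw, rfl⟩, hx⟩
    have hwk : π w = 1 := by
      have : π (G' * w * G'⁻¹) = 1 := hx
      simpa using this
    rw [(Subgroup.mem_bot.1 (key.le ⟨hw, hwk⟩) : w = 1)]
    simp
  · by_cases hp2 : p = 2
    · subst hp2
      have hodd : Odd q := by
        rw [hq]
        exact (hrp.odd_of_ne_two (Ne.symm hpr)).pow
      obtain ⟨g, h, a, hQP, hgS, hhS, hh, hle, hadef, ha2, hcardS, hmem⟩ := sylow_two_structure hodd S
      have ht := tr_sq_of_tr_zero (two_ne_zero' hodd) (tr_zero_of_sq (two_ne_zero' hodd) hQP.1)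
      haveI := isCyclic_cent ht
      haveI : IsCyclic ↥((S : Subgroup G) ⊓ cent g) := isCyclic_of_injective
        (Subgroup.inclusion inf_le_right) (Subgroup.inclusion_injective _)
      obtain ⟨a₁, ha₁⟩ := IsCyclic.exists_generator (α := ↥((S : Subgroup G) ⊓ cent g))
      have hneg : (-1 : G) ≠ 1 := by
        intro e
        have := congrArg (fun x : G => (x : Matrix (Fin 2) (Fin 2) F) 0 0) e
        simp [Matrix.SpecialLinearGroup.coe_neg] at this
        exact two_ne_zero' hodd (by linear_combination -this)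
      have hsq : ∀ x ∈ (S : Subgroup G), x * x ∈ cent g := by
        intro x hx
        by_cases hxc : x ∈ cent g
        · exact mul_mem hxc hxc
        · rw [(sq_of_mem_normalizer ht (hle hx) hxc).2, mem_cent, mul_neg, neg_mul, one_mul, mul_one]
      have hinv : ∀ x ∈ cent g, h * x * h⁻¹ = x⁻¹ := by
        intro x hx
        have h1 : h * x * h⁻¹ ∈ cent g := (Subgroup.mem_normalizer_iff.1 (hle hhS) x).1 hx
        have h3 : h * x ∉ cent g := fun e => hh (by simpa using mul_mem e (inv_mem hx))
        have hN : h * x ∈ Subgroup.normalizer (cent g : Set G) :=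
          mul_mem (hle hhS) (Subgroup.le_normalizer hx)
        have h4 := (sq_of_mem_normalizer ht hN h3).2
        have h5 := (sq_of_mem_normalizer ht (hle hhS) hh).2
        have e : h * x * h⁻¹ * (h * h) * x = h * x * (h * x) := by group
        rw [h4, h5, mul_neg, mul_one, neg_mul, neg_inj] at e
        exact eq_inv_of_mul_eq_one_left e
      have hgs := scal_of_tr_sq_ne ht
      let : CommGroup (cent g) := IsCyclic.commGroup
      have hdvd : 2 ^ a ∣ Nat.card (cent g) := by
        rw [hadef]
        exact Nat.ordProj_dvd _ _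
      have hker : Nat.card (powMonoidHom (2 ^ a) : cent g →* cent g).ker = 2 ^ a := by
        rw [IsCyclic.card_powMonoidHom_ker]
        exact Nat.gcd_eq_right hdvd
      have hcardA : Nat.card ↥((S : Subgroup G) ⊓ cent g) = 2 ^ a := by
        rw [← hker]
        refine Nat.card_congr
          { toFun := fun x => ⟨⟨x.1, x.2.2⟩, by
              rw [MonoidHom.mem_ker]
              exact Subtype.ext (by simpa using (hmem x.1 x.2.2).1 x.2.1)⟩
            invFun := fun x => ⟨x.1.1, (hmem _ x.1.2).2
              (by simpa using congrArg Subtype.val (MonoidHom.mem_ker.1 x.2)), x.1.2⟩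
            left_inv := fun x => rfl
            right_inv := fun x => rfl }
      have hord : orderOf (a₁ : G) = 2 ^ a := by
        rw [Subgroup.orderOf_coe, orderOf_eq_card_of_forall_mem_zpowers ha₁, hcardA]
      obtain ⟨b, rfl⟩ : ∃ b, a = b + 1 := ⟨a - 1, by omega⟩
      have hcl : (S : Subgroup G) = Subgroup.closure {(a₁ : G), h} := by
        have hlt : Subgroup.closure {(a₁ : G), h} ≤ (S : Subgroup G) := by
          rw [Subgroup.closure_le]
          rintro _ (rfl | rfl)
          · exact a₁.2.1
          · exact hhS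
        have hA : (S : Subgroup G) ⊓ cent g < Subgroup.closure {(a₁ : G), h} := by
          refine lt_of_le_not_ge (fun x hx => ?_) fun hge => hh (hge (Subgroup.subset_closure (Or.inr rfl))).2
          obtain ⟨k, hk⟩ := Subgroup.mem_zpowers_iff.1 (ha₁ ⟨x, hx⟩)
          rw [show x = (a₁ : G) ^ k by simpa using (congrArg Subtype.val hk).symm]
          exact zpow_mem (Subgroup.subset_closure (k := {(a₁ : G), h}) (Or.inl rfl)) k
        refine (Subgroup.eq_of_le_of_card_ge hlt ?_).symm
        have h1 := Subgroup.card_dvd_of_le hlt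
        have h2 := Subgroup.card_dvd_of_le hA.le
        have h3 : Nat.card ↥((S : Subgroup G) ⊓ cent g) < Nat.card (Subgroup.closure {(a₁ : G), h}) := by
          refine lt_of_le_of_ne (Nat.le_of_dvd Nat.card_pos h2) fun e => hA.ne ?_
          exact Subgroup.eq_of_le_of_card_ge hA.le e.ge
        rw [hcardA] at h2 h3
        rw [hcardS] at h1 ⊢
        obtain ⟨c, hc'⟩ := h2
        have hc2 : 2 ≤ c := by
          rcases c with _ | _ | c
          · rw [mul_zero] at hc'
            exact absurd hc' Nat.card_pos.ne'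
          · omega
          · omega
        calc 2 ^ (b + 1 + 1) = 2 ^ (b + 1) * 2 := pow_succ _ _
          _ ≤ 2 ^ (b + 1) * c := Nat.mul_le_mul_left _ hc2
          _ = _ := hc'.symm
      refine comap_of_inverted π hπ hc hcard _ (a₁ : G) h (2 ^ b)
        ((Nat.even_pow' (by omega)).2 even_two) (pow_pos two_pos _) (by rw [hord, pow_succ']) ?_
        (hinv _ a₁.2.2) hcl.le
      rw [(sq_of_mem_normalizer ht (hle hhS) hh).2]
      symm
      refine (eq_one_or_of_sq (two_ne_zero' hodd) ?_).resolve_left fun e => ?_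
      · rw [← pow_two, ← pow_mul, ← pow_succ, ← hord, pow_orderOf_eq_one]
      · have := orderOf_dvd_of_pow_eq_one e
        rw [hord] at this
        have := Nat.le_of_dvd (pow_pos two_pos _) this
        rw [pow_succ] at this
        have : 0 < 2 ^ b := pow_pos two_pos b
        omega
    · haveI := isCyclic_sylow_odd r hp2 hpr S
      exact comap_of_cyclic π hπ hc _

end Cfsg.Agent.SchurSplit
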