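import Cfsg.Agent.Lib.SchurSplit.Sylow
import Cfsg.Agent.Lib.Suzuki.Structure
import Cfsg.Agent.Lib.Suzuki.Sylow
import Cfsg.Agent.Lib.Suzuki.LieIso
import Cfsg.Agent.Lib.Suzuki.AutQCore

/-!
No stem extension of `Sz(q)`, `q > 8`, has kernel of prime order.
-/

set_option autoImplicit false
set_option linter.unusedSectionVars false

namespace Cfsg.Agent.SchurSplit

open Cfsg.Agent.Suzuki
open scoped commutatorElement

universe u v

/-- Stem extensions transport along isomorphisms. -/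
theorem noExt_of_equiv {G H : Type u} [Group G] [Group H] (e : G ≃* H) {p : ℕ} (h : NoExt G p) :
    NoExt H p := by
  intro E _ _ π hπ hc hcard hd
  have hker : (e.symm.toMonoidHom.comp π).ker = π.ker := by
    ext x; simp [MonoidHom.mem_ker]
  refine h E (e.symm.toMonoidHom.comp π) (e.symm.surjective.comp hπ) ?_ ?_ ?_ <;> rw [hker]
  · exact hc
  · exact hcard
  · exact hd

/-- A biadditive form with values in a commutative group, invariant under `u` and `1 + u`, is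
trivial unless `u` is a cube root of unity. -/
theorem bilin_eq_one {F : Type*} [Field F] {M : Type*} [CommGroup M] (β : F → F → M)
    (hl : ∀ a b c, β (a + b) c = β a c * β b c) (hr : ∀ a b c, β a (b + c) = β a b * β a c)
    {u : F} (hne : u ≠ 0) (hu : u ^ 2 + u + 1 ≠ 0)
    (hi : ∀ a c, β (u * a) (u * c) = β a c) (hi1 : ∀ a c, β ((1 + u) * a) ((1 + u) * c) = β a c) :
    ∀ a c, β a c = 1 := by
  have hz : u⁻¹ + u + 1 ≠ 0 := by
    intro h
    apply hu
    have h1 : u * u⁻¹ = 1 := mul_inv_cancel₀ hne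
    linear_combination u * h - h1
  have hsh : ∀ a c, β (u * a) c = β a (u⁻¹ * c) := fun a c => by
    rw [← hi a (u⁻¹ * c), mul_inv_cancel_left₀ hne]
  intro a c
  obtain ⟨d, rfl⟩ : ∃ d, c = (u⁻¹ + u + 1) * d :=
    ⟨(u⁻¹ + u + 1)⁻¹ * c, (mul_inv_cancel_left₀ hz c).symm⟩
  have e := hi1 a d
  rw [add_mul, add_mul, one_mul, one_mul, hl, hr, hr, hi, hsh a d, mul_assoc, mul_eq_left] at e
  rw [add_mul, add_mul, one_mul, hr, hr, ← e]
  ac_rfl

/-- A biadditive form invariant under the twisted action of `s` and `1 + s` is trivial unless a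
polynomial in `s` vanishes. -/
theorem twisted_eq_one {F : Type*} [Field F] {M : Type*} [CommGroup M] (θ : F →+* F)
    (γ : F → F → M)
    (hl : ∀ a b c, γ (a + b) c = γ a c * γ b c) (hr : ∀ a b c, γ a (b + c) = γ a b * γ a c)
    {s : F} (hs : s ≠ 0)
    (hpol : θ s * s + s * (θ s * s) + θ s * (θ s * s) + (θ s * s) ^ 2 + 1 + s + θ s ≠ 0)
    (hi : ∀ a b, γ (s * a) (θ s * s * b) = γ a b)
    (hi1 : ∀ a b, γ ((1 + s) * a) (θ (1 + s) * (1 + s) * b) = γ a b) :
    ∀ a b, γ a b = 1 := by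
  set t := θ s with ht
  have htne : t ≠ 0 := (map_ne_zero θ).2 hs
  have hL : t * s ≠ 0 := mul_ne_zero htne hs
  set k := 1 + s + t + t * s + (t * s)⁻¹ + t⁻¹ + s⁻¹ with hk
  have hk0 : k ≠ 0 := by
    intro h
    apply hpol
    have e : t * s + s * (t * s) + t * (t * s) + (t * s) ^ 2 + 1 + s + t = (t * s) * k := by
      rw [hk]; field_simp
    rw [e, h, mul_zero]
  have hsh : ∀ a x, γ (s * a) x = γ a ((t * s)⁻¹ * x) := fun a x => by
    rw [← hi a ((t * s)⁻¹ * x), mul_inv_cancel_left₀ hL]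
  intro a b
  obtain ⟨d, rfl⟩ : ∃ d, b = k * d := ⟨k⁻¹ * b, (mul_inv_cancel_left₀ hk0 b).symm⟩
  have e := hi1 a d
  rw [show θ (1 + s) * (1 + s) * d = d + s * d + t * d + t * s * d by
      rw [map_add, map_one, ← ht]; ring,
    add_mul, one_mul, hl, hr, hr, hr, hr, hr, hr] at e
  rw [hi, hsh a d, hsh a (s * d), hsh a (t * d),
    show (t * s)⁻¹ * (s * d) = t⁻¹ * d by field_simp,
    show (t * s)⁻¹ * (t * d) = s⁻¹ * d by field_simp] at e
  rw [hk]
  simp only [add_mul, one_mul, hr]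
  have key : ∀ x A B C I J K : M, x * A * B * C * (I * J * K * x) = x →
      x * A * B * C * I * J * K = 1 := by
    intro x A B C I J K h
    have h' : (x * A * B * C * I * J * K) * x = 1 * x := by
      rw [one_mul]
      conv_rhs => rw [← h]
      ac_rfl
    exact mul_right_cancel h'
  exact key _ _ _ _ _ _ _ e

variable {F : Type u} [Field F] [Fintype F] {m : ℕ} (D : Dat F m)
  (hF : Fintype.card F = 2 ^ (2 * m + 1))

include D hF in
/-- A parameter avoiding the exceptional relations. -/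
theorem exists_param (hm : 2 ≤ m) : ∃ s : F, s ≠ 0 ∧ 1 + s ≠ 0 ∧ s ^ 2 + s + 1 ≠ 0 ∧
    D.θ s * s + s * (D.θ s * s) + D.θ s * (D.θ s * s) + (D.θ s * s) ^ 2 + 1 + s + D.θ s ≠ 0 := by
  classical
  have htwo : (2 : F) = 0 := D.two
  set n := 2 ^ (m + 1) with hn
  let P : Polynomial F := (Polynomial.X ^ 2 + Polynomial.X) * ((Polynomial.X ^ 2 + Polynomial.X + 1) *
    (Polynomial.X ^ (n + 1) + Polynomial.X ^ (n + 2) + Polynomial.X ^ (2 * n + 1) +
      Polynomial.X ^ (2 * n + 2) + 1 + Polynomial.X + Polynomial.X ^ n))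
  have hn1 : 1 ≤ n := Nat.one_le_two_pow
  have hP0 : P ≠ 0 := by
    refine mul_ne_zero ?_ (mul_ne_zero ?_ ?_) <;> intro h
    · simpa [Polynomial.coeff_X] using congrArg (Polynomial.coeff · 2) h
    · simpa [Polynomial.coeff_X, Polynomial.coeff_one] using congrArg (Polynomial.coeff · 0) h
    · simpa [Polynomial.coeff_X_pow, Polynomial.coeff_one, Polynomial.coeff_X,
        (show ¬ (0 = n) by omega)] using congrArg (Polynomial.coeff · 0) h
  have hdeg : P.natDegree < Fintype.card F := by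
    have h8 : 2 * n + 6 < Fintype.card F := by
      rw [hF, hn]
      obtain ⟨e, rfl⟩ := Nat.exists_eq_add_of_le hm
      have h1 : (1 : ℕ) ≤ 2 ^ e := Nat.one_le_two_pow
      have h2 : 2 ^ (2 * (2 + e) + 1) = 32 * (2 ^ e * 2 ^ e) := by
        rw [show 2 * (2 + e) + 1 = 5 + (e + e) by ring, pow_add, pow_add]; norm_num
      rw [h2, show 2 ^ (2 + e + 1) = 8 * 2 ^ e by
        rw [show 2 + e + 1 = 3 + e by ring, pow_add]; norm_num]
      nlinarith
    refine lt_of_le_of_lt (b := 2 + (2 + (2 * n + 2))) ?_ (by omega)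
    refine Polynomial.natDegree_mul_le.trans (Nat.add_le_add ?_
      (Polynomial.natDegree_mul_le.trans (Nat.add_le_add ?_ ?_)))
    · compute_degree
    · compute_degree
    · refine Polynomial.natDegree_add_le_of_degree_le (Polynomial.natDegree_add_le_of_degree_le
        (Polynomial.natDegree_add_le_of_degree_le (Polynomial.natDegree_add_le_of_degree_le
          (Polynomial.natDegree_add_le_of_degree_le (Polynomial.natDegree_add_le_of_degree_le
            ?_ ?_) ?_) ?_) ?_) ?_) ?_ <;>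
        simp [Polynomial.natDegree_X_pow, Polynomial.natDegree_X] <;> omega
  obtain ⟨x, hx⟩ := Polynomial.exists_eval_ne_zero_of_natDegree_lt_card P hP0 (by simpa using hdeg)
  simp only [P, Polynomial.eval_mul, Polynomial.eval_add, Polynomial.eval_pow, Polynomial.eval_X,
    Polynomial.eval_one, mul_ne_zero_iff] at hx
  obtain ⟨h1, h2, h3⟩ := hx
  rw [show x ^ 2 + x = x * (1 + x) by ring, mul_ne_zero_iff] at h1
  refine ⟨x, h1.1, h1.2, h2, ?_⟩
  rw [D.pow, ← hn]
  convert h3 using 1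
  ring

include D hF in
theorem noExt_sz (hm : 2 ≤ m) : ∀ p, p.Prime → NoExt ↥(Cfsg.Sz F m) p := by
  classical
  intro p hp E _ _ π hπ hck hcard hd
  haveI := Fact.mk hp
  by_cases hp2 : p = 2
  swap
  · obtain ⟨S⟩ : Nonempty (Sylow p ↥(Cfsg.Sz F m)) := inferInstance
    haveI := sylow_odd_cyclic D hF hp2 S
    exact false_of_derived π hπ hck hp hcard hd (S : Subgroup ↥(Cfsg.Sz F m))
      ((hp.coprime_iff_not_dvd).2 S.not_dvd_index) (comap_of_cyclic π hπ hck _)
  subst hp2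
  refine false_of_derived π hπ hck hp hcard hd (Q D)
    ((hp.coprime_iff_not_dvd).2 (not_dvd_index_Q D hF)) ?_
  haveI := D.char2
  have htwo : (2 : F) = 0 := D.two
  obtain ⟨s, hs, hs1, hcube, hpol⟩ := exists_param D hF hm
  have hroot : ∀ x : F, x ≠ 0 → ∃ w : Fˣ, (w : F) ^ 2 = x := by
    intro x hx
    obtain ⟨r, hr⟩ := FiniteField.isSquare_of_char_two (ringChar.eq F 2) x
    have hr0 : r ≠ 0 := fun h => hx (by rw [hr, h, zero_mul])
    exact ⟨Units.mk0 r hr0, by rw [Units.val_mk0, pow_two, ← hr]⟩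
  -- lifts
  choose L hL using fun a : F => hπ (gT D a 0)
  choose Lz hLz using fun b : F => hπ (gT D 0 b)
  choose T hT using fun w : Fˣ => hπ (gH D w)
  have hcen : ∀ v : E, π v = 1 → ∀ x : E, Commute v x := fun v hv x =>
    (Subgroup.mem_center_iff.1 (hck (MonoidHom.mem_ker.2 hv)) x).symm
  have hk2 : ∀ v : E, π v = 1 → v * v = 1 := fun v hv => by
    have := pow_card_eq_one' (x := (⟨v, MonoidHom.mem_ker.2 hv⟩ : π.ker))
    rw [hcard] at this
    simpa [pow_two, Subtype.ext_iff] using this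
  have hker : ∀ {x y : E}, π x = π y → ∃ v, π v = 1 ∧ x = y * v := fun {x y} h =>
    ⟨y⁻¹ * x, by rw [map_mul, map_inv, h, inv_mul_cancel], (mul_inv_cancel_left _ _).symm⟩
  -- the central part lifts to an abelian group
  let Z : Subgroup ↥(Cfsg.Sz F m) :=
    { carrier := {g | ∃ b, g = gT D 0 b}
      one_mem' := ⟨0, (gT_zero D).symm⟩
      mul_mem' := by
        rintro _ _ ⟨b, rfl⟩ ⟨d, rfl⟩
        exact ⟨b + d, by rw [gT_mul, add_zero, map_zero, zero_mul, add_zero]⟩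
      inv_mem' := by
        rintro _ ⟨b, rfl⟩
        exact ⟨b, by rw [gT_inv, map_zero, zero_mul, add_zero]⟩ }
  have hZ : ∀ x ∈ Z.comap π, ∀ y ∈ Z.comap π, x * y = y * x := by
    have h0 := comap_of_torus π hπ hck Z (fun b : F => gT D 0 b)
      (fun a b => by show gT D 0 (a + b) = _; rw [gT_mul, add_zero, map_zero, zero_mul, add_zero])
      (fun g hg => by obtain ⟨b, rfl⟩ := hg; exact ⟨b, rfl⟩) s hs hcube ?_ ?_
    · intro x hx y hy
      refine commutatorElement_eq_one_iff_mul_comm.1 ?_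
      have hmem : ⁅x, y⁆ ∈ ⁅Z.comap π, Z.comap π⁆ ⊓ π.ker := by
        refine ⟨Subgroup.commutator_mem_commutator hx hy, ?_⟩
        obtain ⟨b, hb⟩ := hx
        obtain ⟨d, hd⟩ := hy
        show π ⁅x, y⁆ = 1
        rw [map_commutatorElement, hb, hd, commutatorElement_eq_one_iff_mul_comm, gT_mul, gT_mul,
          map_zero, zero_mul, add_zero, add_zero, add_zero, add_comm b d]
      rwa [h0, Subgroup.mem_bot] at hmem
    · obtain ⟨c, hc⟩ := squares_surjective D hF (s)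
      have hc0 : c ≠ 0 := by
        intro h
        subst h
        simp only [map_zero, mul_zero] at hc
        exact hs hc.symm
      obtain ⟨w, hw⟩ := hroot c hc0
      refine ⟨gH D w, fun r => ?_⟩
      rw [gH_gT, mul_zero, ← map_pow, hw]
      exact congrArg (gT D 0) (by rw [← hc])
    · obtain ⟨c, hc⟩ := squares_surjective D hF (1 + s)
      have hc0 : c ≠ 0 := by
        intro h
        subst h
        simp only [map_zero, mul_zero] at hc
        exact hs1 hc.symm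
      obtain ⟨w, hw⟩ := hroot c hc0
      refine ⟨gH D w, fun r => ?_⟩
      rw [gH_gT, mul_zero, ← map_pow, hw]
      exact congrArg (gT D 0) (by rw [← hc])
  -- commutators of lifts with the central part
  let W : Subgroup E := Z.comap π
  letI : CommGroup W := { (inferInstance : Group W) with mul_comm := fun x y => Subtype.ext (hZ x.1 x.2 y.1 y.2) }
  have hWker : ∀ v, π v = 1 → v ∈ W := fun v hv => by
    show π v ∈ Z
    rw [hv]; exact Z.one_mem
  letI : CommGroup π.ker :=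
    { (inferInstance : Group π.ker) with mul_comm := fun x y => Subtype.ext (hcen x.1 x.2 y.1).eq }
  have hLW : ∀ b, Lz b ∈ W := fun b => ⟨b, hLz b⟩
  have hcomm1 : ∀ a b, π ⁅L a, Lz b⁆ = 1 := fun a b => by
    rw [map_commutatorElement, hL, hLz, commutatorElement_eq_one_iff_mul_comm, gT_mul, gT_mul]
    simp
  have hwell : ∀ (x y v w : E), π v = 1 → π w = 1 → ⁅x * v, y * w⁆ = ⁅x, y⁆ := by
    intro x y v w hv hw
    simp only [commutatorElement_def, mul_inv_rev]
    calc x * v * (y * w) * (v⁻¹ * x⁻¹) * (w⁻¹ * y⁻¹)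
        = x * v * y * (w * (v⁻¹ * x⁻¹)) * w⁻¹ * y⁻¹ := by group
      _ = x * v * y * ((v⁻¹ * x⁻¹) * w) * w⁻¹ * y⁻¹ := by rw [(hcen w hw _).eq]
      _ = x * (v * y) * v⁻¹ * x⁻¹ * y⁻¹ := by group
      _ = x * (y * v) * v⁻¹ * x⁻¹ * y⁻¹ := by rw [(hcen v hv _).eq]
      _ = x * y * x⁻¹ * y⁻¹ := by group
  have hwell' : ∀ {x x' y y' : E}, π x = π x' → π y = π y' → ⁅x, y⁆ = ⁅x', y'⁆ := by
    intro x x' y y' hx hy
    obtain ⟨v, hv, rfl⟩ := hker hx
    obtain ⟨w, hw, rfl⟩ := hker hy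
    exact hwell _ _ v w hv hw
  let γ : F → F → π.ker := fun a b => ⟨⁅L a, Lz b⁆, MonoidHom.mem_ker.2 (hcomm1 a b)⟩
  have hγ : ∀ a b, γ a b = 1 := by
    refine twisted_eq_one D.θ γ (fun a b c => Subtype.ext ?_) (fun a b c => Subtype.ext ?_) hs hpol
      (fun a b => Subtype.ext ?_) (fun a b => Subtype.ext ?_)
    · show ⁅L (a + b), Lz c⁆ = ⁅L a, Lz c⁆ * ⁅L b, Lz c⁆
      obtain ⟨z, hzW, hz⟩ : ∃ z ∈ W, L (a + b) = L a * L b * z := by
        refine ⟨(L a * L b)⁻¹ * L (a + b), ?_, (mul_inv_cancel_left _ _).symm⟩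
        show π ((L a * L b)⁻¹ * L (a + b)) ∈ Z
        refine ⟨D.θ a * b, ?_⟩
        rw [map_mul, map_inv, map_mul, hL, hL, hL, gT_mul, inv_mul_eq_iff_eq_mul, gT_mul]
        congr 1
        · ring
        · linear_combination (-(D.θ a * b)) * htwo
      have e : ⁅L (a + b), Lz c⁆ = ⁅L a * L b, Lz c⁆ := by
        rw [hz]
        simp only [commutatorElement_def, mul_inv_rev]
        have hzc := hZ z hzW (Lz c) (hLW c)
        calc L a * L b * z * Lz c * (z⁻¹ * ((L b)⁻¹ * (L a)⁻¹)) * (Lz c)⁻¹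
            = L a * L b * (z * Lz c) * z⁻¹ * (L b)⁻¹ * (L a)⁻¹ * (Lz c)⁻¹ := by group
          _ = _ := by rw [hzc]; group
      rw [e, show ⁅L a * L b, Lz c⁆ = L a * ⁅L b, Lz c⁆ * (L a)⁻¹ * ⁅L a, Lz c⁆ by
          simp only [commutatorElement_def]; group,
        (hcen _ (hcomm1 b c) (L a)).symm.eq, mul_inv_cancel_right, (hcen _ (hcomm1 b c) _).eq]
    · show ⁅L a, Lz (b + c)⁆ = ⁅L a, Lz b⁆ * ⁅L a, Lz c⁆
      rw [hwell' (x' := L a) (y' := Lz b * Lz c) rfl (by
          rw [map_mul, hLz, hLz, hLz, gT_mul]; simp),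
        show ⁅L a, Lz b * Lz c⁆ = ⁅L a, Lz b⁆ * (Lz b * ⁅L a, Lz c⁆ * (Lz b)⁻¹) by
          simp only [commutatorElement_def]; group,
        (hcen _ (hcomm1 a c) (Lz b)).symm.eq, mul_inv_cancel_right]
    all_goals
      first
        | (show ⁅L (s * a), Lz (D.θ s * s * b)⁆ = ⁅L a, Lz b⁆
           obtain ⟨w, hw⟩ := hroot s hs)
        | (show ⁅L ((1 + s) * a), Lz (D.θ (1 + s) * (1 + s) * b)⁆ = ⁅L a, Lz b⁆
           obtain ⟨w, hw⟩ := hroot (1 + s) hs1)
      rw [hwell' (x' := T w * L a * (T w)⁻¹) (y' := T w * Lz b * (T w)⁻¹) ?_ ?_,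
        show ⁅T w * L a * (T w)⁻¹, T w * Lz b * (T w)⁻¹⁆ = T w * ⁅L a, Lz b⁆ * (T w)⁻¹ by
          simp only [commutatorElement_def]; group,
        (hcen _ (hcomm1 a b) (T w)).symm.eq, mul_inv_cancel_right]
      · rw [map_mul, map_mul, map_inv, hT, hL, hL, gH_gT, hw, mul_zero]
      · rw [map_mul, map_mul, map_inv, hT, hLz, hLz, gH_gT, ← map_pow, hw, mul_zero]
  set P : Subgroup E := (Q D).comap π with hP
  have hform : ∀ x ∈ P, ∃ a, ∃ z ∈ W, x = L a * z := by
    rintro x ⟨a, b, hx⟩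
    refine ⟨a, (L a)⁻¹ * x, ?_, (mul_inv_cancel_left _ _).symm⟩
    show π ((L a)⁻¹ * x) ∈ Z
    refine ⟨b, ?_⟩
    rw [map_mul, map_inv, hL, hx, inv_mul_eq_iff_eq_mul, gT_mul]
    simp
  have hWc : ∀ z ∈ W, ∀ a, Commute z (L a) := by
    intro z hz a
    obtain ⟨b, hb⟩ := hz
    obtain ⟨v, hv, rfl⟩ := hker (hb.trans (hLz b).symm)
    refine Commute.mul_left ?_ (hcen v hv _)
    exact (commutatorElement_eq_one_iff_mul_comm.1 (congrArg Subtype.val (hγ a b))).symm
  have hδW : ∀ a c, ⁅L a, L c⁆ ∈ W := fun a c => by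
    refine ⟨D.θ a * c + D.θ c * a, ?_⟩
    rw [map_commutatorElement, hL, hL]
    exact congrArg Subtype.val (qT_commutator D a 0 c 0)
  let δ : F → F → W := fun a c => ⟨⁅L a, L c⁆, hδW a c⟩
  have hWn : ∀ (w : Fˣ), ∀ z ∈ W, T w * z * (T w)⁻¹ ∈ W := by
    intro w z hz
    obtain ⟨b, hb⟩ := hz
    refine ⟨D.θ w ^ 2 * (w : F) ^ 2 * b, ?_⟩
    rw [map_mul, map_mul, map_inv, hT, hb, gH_gT, mul_zero]
  let Φ : Fˣ → W →* W := fun w =>
    { toFun := fun z => ⟨T w * z * (T w)⁻¹, hWn w z z.2⟩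
      map_one' := Subtype.ext (by simp)
      map_mul' := fun x y => Subtype.ext (by
        show T w * (x.1 * y.1) * (T w)⁻¹ = T w * x.1 * (T w)⁻¹ * (T w * y.1 * (T w)⁻¹)
        group) }
  let Ψ : W →* W :=
    { toFun := fun z => ∏ w : Fˣ, Φ w z
      map_one' := by simp
      map_mul' := fun x y => by simp [Finset.prod_mul_distrib] }
  have hΦδ : ∀ (w : Fˣ) a c, Φ w (δ a c) = δ ((w : F) ^ 2 * a) ((w : F) ^ 2 * c) := by
    intro w a c
    apply Subtype.ext
    show T w * ⁅L a, L c⁆ * (T w)⁻¹ = ⁅L ((w : F) ^ 2 * a), L ((w : F) ^ 2 * c)⁆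
    rw [hwell' (x := L ((w : F) ^ 2 * a)) (y := L ((w : F) ^ 2 * c))
      (x' := T w * L a * (T w)⁻¹) (y' := T w * L c * (T w)⁻¹)
      (by rw [map_mul, map_mul, map_inv, hT, hL, hL, gH_gT, mul_zero])
      (by rw [map_mul, map_mul, map_inv, hT, hL, hL, gH_gT, mul_zero])]
    simp only [commutatorElement_def]
    group
  have hδl : ∀ a b c, δ (a + b) c = δ a c * δ b c := by
    intro a b c
    apply Subtype.ext
    show ⁅L (a + b), L c⁆ = ⁅L a, L c⁆ * ⁅L b, L c⁆
    obtain ⟨z, hzW, hz⟩ : ∃ z ∈ W, L (a + b) = L a * L b * z := by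
      refine ⟨(L a * L b)⁻¹ * L (a + b), ?_, (mul_inv_cancel_left _ _).symm⟩
      show π ((L a * L b)⁻¹ * L (a + b)) ∈ Z
      refine ⟨D.θ a * b, ?_⟩
      rw [map_mul, map_inv, map_mul, hL, hL, hL, gT_mul, inv_mul_eq_iff_eq_mul, gT_mul]
      congr 1
      · ring
      · linear_combination (-(D.θ a * b)) * htwo
    have e : ⁅L (a + b), L c⁆ = ⁅L a * L b, L c⁆ := by
      rw [hz]
      simp only [commutatorElement_def, mul_inv_rev]
      calc L a * L b * z * L c * (z⁻¹ * ((L b)⁻¹ * (L a)⁻¹)) * (L c)⁻¹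
          = L a * L b * (z * L c) * z⁻¹ * (L b)⁻¹ * (L a)⁻¹ * (L c)⁻¹ := by group
        _ = _ := by rw [(hWc z hzW c).eq]; group
    rw [e, show ⁅L a * L b, L c⁆ = L a * ⁅L b, L c⁆ * (L a)⁻¹ * ⁅L a, L c⁆ by
        simp only [commutatorElement_def]; group,
      (hWc _ (hδW b c) a).symm.eq, mul_inv_cancel_right]
    exact hZ _ (hδW b c) _ (hδW a c)
  have hδr : ∀ a b c, δ a (b + c) = δ a b * δ a c := by
    intro a b c
    have hs : ∀ x y, δ x y = (δ y x)⁻¹ := fun x y =>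
      Subtype.ext (commutatorElement_inv (L y) (L x)).symm
    rw [hs, hδl, mul_inv, ← hs, ← hs]
  let ε : F → F → W := fun a c => Ψ (δ a c)
  have hεi : ∀ x : F, x ≠ 0 → ∀ a c, ε (x * a) (x * c) = ε a c := by
    intro x hx a c
    obtain ⟨v, hv⟩ := hroot x hx
    show ∏ w : Fˣ, Φ w (δ (x * a) (x * c)) = ∏ w : Fˣ, Φ w (δ a c)
    simp only [hΦδ]
    refine Fintype.prod_equiv (Equiv.mulRight v) _ _ fun w => ?_
    simp only [Equiv.coe_mulRight, Units.val_mul, ← hv]
    congr 1 <;> ring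
  have hεk : ∀ a c, π (ε a c : E) = 1 := by
    intro a c
    obtain ⟨e, he⟩ := (ε a c).2
    obtain ⟨v, hv⟩ := hroot s hs
    have hfix : Φ v (ε a c) = ε a c := by
      show Φ v (∏ w : Fˣ, Φ w (δ a c)) = ∏ w : Fˣ, Φ w (δ a c)
      rw [map_prod]
      refine Fintype.prod_equiv (Equiv.mulLeft v) _ _ fun w => ?_
      simp only [hΦδ, Equiv.coe_mulLeft, Units.val_mul]
      congr 1 <;> ring
    have h2 := congrArg (fun z : W => π (z : E)) hfix
    change π (T v * (ε a c : E) * (T v)⁻¹) = π (ε a c : E) at h2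
    rw [map_mul, map_mul, map_inv, hT, he, gH_gT, mul_zero] at h2
    have h3 := gT_center_inj D h2
    rw [hv, ← map_pow, hv] at h3
    have hne : D.θ s * s ≠ 1 := fun h => by
      have := scale_eq_one D hF hs h
      exact hs1 (by rw [this]; linear_combination htwo)
    have h4 : (D.θ s * s - 1) * e = 0 := by rw [sub_mul, one_mul, h3, sub_self]
    rw [(mul_eq_zero.1 h4).resolve_left (sub_ne_zero.2 hne)] at he
    rw [he, gT_zero]
  have hε : ∀ a c, ε a c = 1 :=
    bilin_eq_one ε (fun a b c => by show Ψ _ = Ψ _ * Ψ _; rw [← map_mul, hδl])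
      (fun a b c => by show Ψ _ = Ψ _ * Ψ _; rw [← map_mul, hδr]) hs hcube
      (hεi s hs) (hεi (1 + s) hs1)
  rw [eq_bot_iff]
  rintro x ⟨hx, hxk⟩
  have hxW : x ∈ (Ψ.ker).map W.subtype := by
    refine (Subgroup.commutator_le.2 ?_) hx
    intro g hg k hk
    obtain ⟨a, z, hz, rfl⟩ := hform g hg
    obtain ⟨c, z', hz', rfl⟩ := hform k hk
    refine ⟨δ a c, hε a c, ?_⟩
    show ⁅L a, L c⁆ = ⁅L a * z, L c * z'⁆
    simp only [commutatorElement_def, mul_inv_rev]
    symm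
    calc L a * z * (L c * z') * (z⁻¹ * (L a)⁻¹) * (z'⁻¹ * (L c)⁻¹)
        = L a * z * L c * (z' * z⁻¹) * (L a)⁻¹ * z'⁻¹ * (L c)⁻¹ := by group
      _ = L a * z * L c * z⁻¹ * (z' * (L a)⁻¹) * z'⁻¹ * (L c)⁻¹ := by
        rw [show z' * z⁻¹ = z⁻¹ * z' from hZ _ hz' _ (W.inv_mem hz)]; group
      _ = L a * (z * L c) * z⁻¹ * (L a)⁻¹ * (L c)⁻¹ := by
        rw [((hWc z' hz' a).inv_right).eq]; group
      _ = L a * L c * (L a)⁻¹ * (L c)⁻¹ := by rw [(hWc z hz c).eq]; group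
  obtain ⟨⟨y, hy⟩, hΨ, rfl⟩ := hxW
  have hk : π y = 1 := hxk
  have hpow : Ψ ⟨y, hy⟩ = (⟨y, hy⟩ : W) ^ Fintype.card Fˣ := by
    show ∏ w : Fˣ, Φ w ⟨y, hy⟩ = _
    rw [← Finset.card_univ, ← Finset.prod_const]
    refine Finset.prod_congr rfl fun w _ => Subtype.ext ?_
    show T w * y * (T w)⁻¹ = y
    rw [(hcen y hk (T w)).symm.eq, mul_inv_cancel_right]
  replace hΨ : Ψ ⟨y, hy⟩ = 1 := MonoidHom.mem_ker.1 hΨ
  rw [hΨ] at hpow
  have h1 : y ^ Fintype.card Fˣ = 1 := by simpa using (congrArg Subtype.val hpow).symm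
  have hodd : Odd (Fintype.card Fˣ) := by
    rw [Fintype.card_units, hF, pow_succ]
    have := Nat.one_le_two_pow (n := 2 * m)
    exact ⟨2 ^ (2 * m) - 1, by omega⟩
  obtain ⟨k, hk'⟩ := hodd
  rw [hk', pow_succ, pow_mul, pow_two, hk2 y hk, one_pow, one_mul] at h1
  rw [Subgroup.mem_bot]
  exact h1

end Cfsg.Agent.SchurSplit
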